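import Groth.Agent.Vancyc.H29.Kappa0
import Groth.Agent.Vancyc.H263.PunctMain

/-!
# The generator of `H^{2m}_0(𝔸^m, ℤ/n)` over a separably closed field
-/

set_option autoImplicit false
universe u
open CategoryTheory CategoryTheory.Limits AlgebraicGeometry Opposite

namespace Groth.Agent.Vancyc.H29.Kappa0Main

open Groth.Agent Groth.Agent.Vancyc.H327 Groth.Agent.Sga4h.H13 Groth.Agent.Vancyc.H29.Kappa0
  Groth.Agent.Vancyc.H263.AffBundle
open scoped Groth.Agent.Etcore.EtInst
open Groth.Agent.Etcore.EtInst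

noncomputable section

theorem nonempty_HC {X : Scheme.{u}} {M A : Type} [AddCommGroup M] [AddCommGroup A] {q : ℕ}
    (h : Nonempty (EtCoh.H X (EtCoh.const X M) q ≃+ A)) : Nonempty (HC M X q ≃+ A) := h

variable {k : Type u} [Field k] [IsSepClosed k] {n : ℕ} (hn : (n : k) ≠ 0) (m : ℕ)

include hn in
theorem input : Input k n m where
  aff q hq := H263.PunctAff.subsingleton_H_of_isAff (isAff_self m (Spec (CommRingCat.of k))) hn q
    (Nat.pos_of_ne_zero hq)
  aff0 := by
    have : IrreducibleSpace (Aff k m) :=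
      H263.PunctAff.irreducibleSpace_of_isAff (isAff_self m (Spec (CommRingCat.of k)))
    exact nonempty_HC (Etrest.SHPoint.nonempty_H0_const (Aff k m) (ZMod n))
  punct hm := nonempty_HC (H263.PunctMain.punct hn (isAff_self m (Spec (CommRingCat.of k))) hm
    (origin k m) (origin_str k m) (O0 k m).ι (by
      rw [Scheme.Opens.range_ι]
      exact coe_O0)).2.1

include hn in
/-- **The generator** `κ₀` of `H^{2m}_0(𝔸^m, ℤ/n)`. -/
theorem exists_kappa : ∃ κ : HS (ZMod n) (O0 k m) (2 * m),
    (∀ y, ∃ c : ℤ, y = c • κ) ∧ ∀ c : ℤ, c • κ = 0 ↔ (n : ℤ) ∣ c :=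
  exists_generator (input hn m)

include hn in
theorem nonempty_HS : Nonempty (HS (ZMod n) (O0 k m) (2 * m) ≃+ ZMod n) :=
  nonempty_equiv (input hn m)

end

end Groth.Agent.Vancyc.H29.Kappa0Main
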