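import Groth.Agent.Vancyc.H158.Bridge
import Groth.Agent.Sga4h.H556.ExcPt
import Groth.Agent.Vancyc.H327.AffO
import Groth.Agent.Vancyc.H327.Supp3

/-!
# Rank one at a rational point (S4009)

Classes supported at a rational point `i` of `X` with an étale chart `Φ : U ⟶ 𝔸^m`, `Φ⁻¹(0) = i`, are the pull-backs
of the classes supported at the origin.
-/

set_option autoImplicit false
universe u
open CategoryTheory CategoryTheory.Limits AlgebraicGeometry Opposite

namespace Groth.Agent.Vancyc.H29.RankPt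

open Groth.Agent Groth.Agent.Vancyc.H327 Groth.Agent.Sga4h.H13 Groth.Agent.Sga4h.H556

noncomputable section

variable {k : Type u} [Field k] {X Z : Scheme.{u}} {m : ℕ}

/-- The complement of `Z` on a chart. -/
theorem preimage_eq (i : Z ⟶ X) [IsClosedImmersion i] {O : X.Opens}
    (hO : (O : Set X) = (Set.range i)ᶜ) {U : X.Opens} {Φ : U.toScheme ⟶ Aff k m}
    (hΦ : (origin k m).ker.comap Φ = i.ker.comap U.ι) : U.ι ⁻¹ᵁ O = Φ ⁻¹ᵁ O0 k m := by
  have h0 : IsClosedImmersion (origin k m) := by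
    have h : IsClosedImmersion (origin k m ≫ Aff.str k m) := by
      rw [origin_str]
      infer_instance
    exact IsClosedImmersion.of_comp (origin k m) (Aff.str k m)
  have h1 := congrArg Scheme.IdealSheafData.support hΦ
  rw [Scheme.IdealSheafData.support_comap, Scheme.IdealSheafData.support_comap] at h1
  have h2 : (i.ker.support : Set X) = Set.range i := by
    rw [Scheme.Hom.support_ker, i.isClosedEmbedding.isClosed_range.closure_eq]
  have h3 : ((origin k m).ker.support : Set (Aff k m)) = Set.range (origin k m) := by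
    rw [Scheme.Hom.support_ker, (origin k m).isClosedEmbedding.isClosed_range.closure_eq]
  ext u
  have h4 : u ∈ U.ι ⁻¹ᵁ O ↔ ¬ (U.ι u ∈ Set.range i) := by
    change U.ι u ∈ (O : Set X) ↔ _
    rw [hO]
    rfl
  have h5 : u ∈ Φ ⁻¹ᵁ O0 k m ↔ ¬ (Φ u ∈ Set.range (origin k m)) := by
    change Φ u ∈ (O0 k m : Set (Aff k m)) ↔ _
    rw [coe_O0]
    rfl
  have h6 : (Φ u ∈ Set.range (origin k m)) ↔ (U.ι u ∈ Set.range i) := by
    rw [← h2, ← h3]
    exact (SetLike.ext_iff.1 h1 u)
  change u ∈ U.ι ⁻¹ᵁ O ↔ u ∈ Φ ⁻¹ᵁ O0 k m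
  rw [h4, h5, h6]

theorem isClosed_origin (k : Type u) [Field k] (m : ℕ) : IsClosed {origin k m default} := by
  have h0 : IsClosedImmersion (origin k m) := by
    have h : IsClosedImmersion (origin k m ≫ Aff.str k m) := by
      rw [origin_str]
      infer_instance
    exact IsClosedImmersion.of_comp (origin k m) (Aff.str k m)
  have h3 : ({origin k m default} : Set (Aff k m)) = Set.range (origin k m) := by
    ext z
    constructor
    · rintro rfl
      exact ⟨_, rfl⟩
    · rintro ⟨a, rfl⟩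
      rw [Subsingleton.elim a default]
      rfl
  rw [h3]
  exact (origin k m).isClosedEmbedding.isClosed_range

theorem eq_of_notMem {y : Aff k m} (hy : y ∉ O0 k m) : y = origin k m default := by
  have h1 : y ∈ Set.range (origin k m) := by
    by_contra h
    apply hy
    have h2 : y ∈ (O0 k m : Set (Aff k m)) := by
      rw [coe_O0]
      exact h
    exact h2
  obtain ⟨a, ha⟩ := h1
  rw [← ha, Subsingleton.elim a default]

section

variable [IsAlgClosed k] (M : Type) [AddCommGroup M]

theorem pull_bijective_aux {U : Scheme.{u}} (Φ : U ⟶ Aff k m) [Etale Φ] (u₀ : U)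
    (h : ∀ u : U, u ∉ Φ ⁻¹ᵁ O0 k m ↔ u = u₀) (q : ℕ) :
    Function.Bijective (HS.pull M Φ (le_refl (Φ ⁻¹ᵁ O0 k m)) q) := by
  have h1 : Φ u₀ = origin k m default := eq_of_notMem ((h u₀).2 rfl)
  have hE : Glue.ExcCond (O0 k m) (Scheme.Etale.mk Φ) :=
    ExcPt.excCond_of_unique (Aff.str k m) Φ (O0 k m) (origin k m default) (isClosed_origin k m)
      (fun y hy => eq_of_notMem hy) u₀ h1 (fun v hv => by
        refine (h v).1 fun hv' => ?_
        have h2 : Φ v ∈ (O0 k m : Set (Aff k m)) := hv'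
        rw [coe_O0, hv] at h2
        exact h2 ⟨_, rfl⟩)
  exact H158.Bridge.pull_bijective_of_exc M Φ hE q

variable (i : Spec (CommRingCat.of k) ⟶ X) [IsClosedImmersion i] {O : X.Opens}
  (hO : (O : Set X) = (Set.range i)ᶜ) {U : X.Opens} (hU : i default ∈ U) {Φ : U.toScheme ⟶ Aff k m}
  [Etale Φ] (hΦ : (origin k m).ker.comap Φ = i.ker.comap U.ι)

include hU hO hΦ in
/-- `Φ^*` is bijective. -/
theorem pull_bijective (q : ℕ) :
    Function.Bijective (HS.pull M Φ (preimage_eq i hO hΦ).le q) := by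
  have key : ∀ (O' : U.toScheme.Opens) (h : O' = Φ ⁻¹ᵁ O0 k m),
      Function.Bijective (HS.pull M Φ h.le q) := by
    rintro _ rfl
    refine pull_bijective_aux M Φ (⟨i default, hU⟩ : U) (fun u => ?_) q
    rw [← preimage_eq i hO hΦ]
    have h4 : u ∉ U.ι ⁻¹ᵁ O ↔ (U.ι u ∈ Set.range i) := by
      rw [← not_iff_not, not_not]
      change U.ι u ∈ (O : Set X) ↔ _
      rw [hO]
      rfl
    rw [h4]
    constructor
    · rintro ⟨a, ha⟩
      rw [Subsingleton.elim a default] at ha
      exact Subtype.ext ha.symm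
    · rintro rfl
      exact ⟨_, rfl⟩
  exact key _ (preimage_eq i hO hΦ)

include hU hO in
omit [IsAlgClosed k] [IsClosedImmersion i] in
/-- Restriction to `U` is bijective. -/
theorem pull_ι_bijective (q : ℕ) :
    Function.Bijective (HS.pull M U.ι (le_refl (U.ι ⁻¹ᵁ O)) q) := by
  refine HS.pull_bijective_of_open M U.ι rfl (fun x hx => ?_) q
  have h1 : x ∈ Set.range i := by
    by_contra h
    apply hx
    have h2 : x ∈ (O : Set X) := by
      rw [hO]
      exact h
    exact h2
  obtain ⟨a, rfl⟩ := h1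
  rw [Scheme.Opens.range_ι, Subsingleton.elim a default]
  exact hU

include hU hO hΦ in
/-- **Rank one at a point**: if every class supported at the origin is a multiple of `κ` and `c` is a class
supported at `i` equal to `Φ^* κ` on a chart, every class supported at `i` is a multiple of `c`. -/
theorem exists_zsmul {q : ℕ} (κ : HS M (O0 k m) q) (hκ : ∀ y : HS M (O0 k m) q, ∃ c : ℤ, y = c • κ)
    (c : HS M O q) (hc : HS.pull M U.ι (le_refl (U.ι ⁻¹ᵁ O)) q c =
      HS.pull M Φ (preimage_eq i hO hΦ).le q κ) (y : HS M O q) : ∃ ν : ℤ, y = ν • c := by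
  obtain ⟨w, hw⟩ := (pull_bijective M i hO hU hΦ q).2 (HS.pull M U.ι (le_refl (U.ι ⁻¹ᵁ O)) q y)
  obtain ⟨ν, rfl⟩ := hκ w
  refine ⟨ν, (pull_ι_bijective M i hO hU q).1 ?_⟩
  rw [← hw, map_zsmul, map_zsmul, hc]

include hU hO hΦ in
/-- The class supported at `i` with given restriction. -/
theorem nonempty_equiv (q : ℕ) : Nonempty (HS M (O0 k m) q ≃+ HS M O q) :=
  ⟨(AddEquiv.ofBijective _ (pull_bijective M i hO hU hΦ q)).trans
    (AddEquiv.ofBijective _ (pull_ι_bijective M i hO hU q)).symm⟩

end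

end

end Groth.Agent.Vancyc.H29.RankPt
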