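import Groth.Agent.Vancyc.H29.PointChart
import Groth.Agent.Vancyc.H29.RankPt
import Groth.Agent.Vancyc.H29.Kappa0Main
import Groth.Agent.Vancyc.H327.FC2

/-!
# Rank one at the rational points of the smooth locus (S4009)
-/

set_option autoImplicit false
universe u
open CategoryTheory CategoryTheory.Limits AlgebraicGeometry Opposite

namespace Groth.Agent.Vancyc.H29.RankLCI

open Groth.Agent Groth.Agent.Vancyc.H327 Groth.Agent.Sga4h.H13

noncomputable section

variable {k : Type u} [Field k] [IsAlgClosed k] {m n : ℕ} {X X0 : Scheme.{u}}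
  {x : X ⟶ Spec (CommRingCat.of k)} [IsLocallyNoetherian X] [CompactSpace X]
  {i : Spec (CommRingCat.of k) ⟶ X} [IsClosedImmersion i] {O : X.Opens}

/-- **Rank one at a rational point of the smooth locus.** -/
theorem exists_zsmul (h : LCI x i O m n) (hx : i ≫ x = 𝟙 _) (j : X0 ⟶ X) [IsOpenImmersion j]
    [SmoothOfRelativeDimension m (j ≫ x)] (i0 : Spec (CommRingCat.of k) ⟶ X0) (hi : i0 ≫ j = i)
    (κ : HS (ZMod n) (O0 k m) (2 * m)) (hκ : ∀ y : HS (ZMod n) (O0 k m) (2 * m), ∃ c : ℤ, y = c • κ)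
    (y : HS (ZMod n) O (2 * m)) : ∃ c : ℤ, y = c • fc h κ := by
  have h0 : IsClosedImmersion i0 := by
    have h00 : IsClosedImmersion (i0 ≫ j) := by
      rw [hi]
      infer_instance
    exact IsClosedImmersion.of_comp i0 j
  have h1 : SmoothOfRelativeDimension 0 (i0 ≫ j ≫ x) := by
    rw [← Category.assoc, hi, hx]
    infer_instance
  obtain ⟨U, Φ, -, hU, h2, h3, h4⟩ := PointChart.exists_chart x j i0 i hi m default
  exact RankPt.exists_zsmul (ZMod n) i h.compl hU h3 κ hκ (fc h κ) (fc_chart' h κ U Φ ⟨h2, h3⟩) y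

/-- The group of classes supported at a rational point of the smooth locus is cyclic of order `n`. -/
theorem nonempty_equiv (h : LCI x i O m n) (hx : i ≫ x = 𝟙 _) (j : X0 ⟶ X) [IsOpenImmersion j]
    [SmoothOfRelativeDimension m (j ≫ x)] (i0 : Spec (CommRingCat.of k) ⟶ X0) (hi : i0 ≫ j = i) :
    Nonempty (HS (ZMod n) O (2 * m) ≃+ ZMod n) := by
  have h0 : IsClosedImmersion i0 := by
    have h00 : IsClosedImmersion (i0 ≫ j) := by
      rw [hi]
      infer_instance
    exact IsClosedImmersion.of_comp i0 j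
  have h1 : SmoothOfRelativeDimension 0 (i0 ≫ j ≫ x) := by
    rw [← Category.assoc, hi, hx]
    infer_instance
  obtain ⟨U, Φ, -, hU, h2, h3, h4⟩ := PointChart.exists_chart x j i0 i hi m default
  obtain ⟨e⟩ := RankPt.nonempty_equiv (ZMod n) i h.compl hU h3 (2 * m)
  obtain ⟨e'⟩ := Kappa0Main.nonempty_HS h.hn m
  exact ⟨e.symm.trans e'⟩

/-- **The class** `κ₀`. -/
theorem exists_kappa (hn : (n : k) ≠ 0) (m : ℕ) : ∃ κ : HS (ZMod n) (O0 k m) (2 * m),
    (∀ y, ∃ c : ℤ, y = c • κ) ∧ ∀ c : ℤ, c • κ = 0 ↔ (n : ℤ) ∣ c :=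
  Kappa0Main.exists_kappa hn m

end

end Groth.Agent.Vancyc.H29.RankLCI
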