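import Groth.Agent.Sga7.H764.EdgeHigh
import Groth.Agent.Etbc.H238.EdgeInj

/-!
# Classes killed by the edge map

`L ⊣ R` (`C ⇄ D`), `L` exact.  Let `S : 0 → N → I → K → 0` be exact in `D` with `I` injective, and
`T R S : 0 → R N → R I → B → 0` with `κ : B → R K`.  Let `β : T R S ⟶ S'` be a map of short exact sequences in
`C` such that `β₃ : B → S'₃` extends to `R K → S'₃`, and suppose `Ext^p(A, R^j R N) = 0` for `j ≥ 2`,
`p + j + 1 = m`.  If `x ∈ Ext^m(A, R N)` is killed by the edge map to `Ext^m(L A, N)`, then it dies in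
`Ext^m(A, S'₁)`.
-/

set_option autoImplicit false

universe w w' v v' v'' u u' u''

open CategoryTheory CategoryTheory.Limits CategoryTheory.Abelian

namespace Groth.Agent.Vancyc.H29.EdgeZero

open Groth.Agent.EtpbcB.EdgeLemma

variable {C : Type u} [Category.{v} C] [Abelian C] [HasExt.{w} C]
variable {D : Type u'} [Category.{v'} D] [Abelian D] [HasExt.{w'} D] [EnoughInjectives D]
variable {L : C ⥤ D} {R : D ⥤ C} [L.Additive] [PreservesFiniteLimits L] [PreservesFiniteColimits L]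
variable (adj : L ⊣ R) [R.Additive] [PreservesFiniteLimits R]

omit [EnoughInjectives D] [R.Additive] [PreservesFiniteLimits R] in
theorem edge_zero_injective (A : C) (N : D) : Function.Injective (edge adj A N 0) := by
  intro x y hxy
  obtain ⟨x, rfl⟩ := (Ext.mk₀_bijective _ _).2 x
  obtain ⟨y, rfl⟩ := (Ext.mk₀_bijective _ _).2 y
  rw [edge_mk₀, edge_mk₀] at hxy
  rw [(adj.homEquiv A N).symm.injective ((Ext.mk₀_bijective _ _).1 hxy)]

variable {S : ShortComplex D} (hS : S.ShortExact) [Injective S.X₂]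

include hS in
theorem comp_eq_zero {S' : ShortComplex C} (hS' : S'.ShortExact) (β : T R S ⟶ S')
    (θ : R.obj S.X₃ ⟶ S'.X₃) (hθ : kap R S ≫ θ = β.τ₃) (A : C) (m : ℕ)
    (hN : ∀ p q, p + (q + 2) + 1 = m → Subsingleton (Ext.{w} A ((R.rightDerived (q + 2)).obj S.X₁) p))
    (x : Ext.{w} A (R.obj S.X₁) m) (hx : edge adj A S.X₁ m x = 0) :
    x.comp (Ext.mk₀ β.τ₁) (add_zero m) = 0 := by
  match m, hN, x, hx with
  | 0, hN, x, hx =>
    have h0 : x = 0 := edge_zero_injective adj A S.X₁ (hx.trans (map_zero _).symm)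
    rw [h0, Ext.zero_comp]
  | 1, hN, x, hx =>
    have h0 : x = 0 :=
      Groth.Agent.Etbc.H238.EdgeInj.edge_one_injective adj A S.X₁ (hx.trans (map_zero _).symm)
    rw [h0, Ext.zero_comp]
  | a + 2, hN, x, hx =>
    have hRI := injective_R adj S.X₂
    obtain ⟨w, rfl⟩ := Ext.covariant_sequence_exact₁ A (shortExact_T (R := R) hS) x
      (Ext.eq_zero_of_injective _) (rfl : a + 1 + 1 = a + 2)
    have hx' := (edge_delta adj hS A (a + 1) w).symm.trans hx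
    obtain ⟨u, hu⟩ := Ext.covariant_sequence_exact₃ (L.obj A) hS _ (rfl : a + 1 + 1 = a + 2) hx'
    have hu0 : u = 0 := Ext.eq_zero_of_injective u
    rw [hu0, Ext.zero_comp] at hu
    have h1 : w.comp (Ext.mk₀ (kap R S)) (add_zero (a + 1)) = 0 := by
      apply Groth.Agent.Sga7.H764.EdgeHigh.edge_injective adj A (a + 1) S.X₃
      · intro p q hpq
        obtain ⟨e''⟩ := Etcore.DerLES.nonempty_iso_of_injective R hS q
        exact Groth.Agent.Sga7.H764.EdgeHigh.subsingleton_of_iso e'' p (hN p q (by omega))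
      · exact hu.symm.trans (map_zero _).symm
    have h2 : w.comp (Ext.mk₀ β.τ₃) (add_zero (a + 1)) = 0 := by
      rw [← hθ, ← Ext.mk₀_comp_mk₀, ← Ext.comp_assoc_of_third_deg_zero, h1, Ext.zero_comp]
    have h3 : (shortExact_T (R := R) hS).extClass.comp (Ext.mk₀ β.τ₁) (add_zero 1) =
        (Ext.mk₀ β.τ₃).comp hS'.extClass (zero_add 1) :=
      ShortComplex.ShortExact.extClass_naturality (shortExact_T (R := R) hS) hS' β
    have h4 := Ext.comp_assoc_of_third_deg_zero w (shortExact_T (R := R) hS).extClass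
      (Ext.mk₀ β.τ₁) (rfl : a + 1 + 1 = a + 2)
    refine h4.trans ?_
    rw [h3, ← Ext.comp_assoc_of_second_deg_zero, h2, Ext.zero_comp]

section Two

variable {D' : Type u''} [Category.{v''} D'] [Abelian D'] {R₂ : D' ⥤ D} [R₂.Additive] [PreservesFiniteLimits R₂]
  {S₂ : ShortComplex D'} (hS₂ : S₂.ShortExact) (a : S ⟶ S₂.map R₂)

/-- The induced map of sequences `T R S ⟶ T (R₂ ⋙ R) S₂`. -/
noncomputable def mapT : T R S ⟶ T (R₂ ⋙ R) S₂ where
  τ₁ := R.map a.τ₁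
  τ₂ := R.map a.τ₂
  τ₃ := cokernel.map _ _ (R.map a.τ₁) (R.map a.τ₂) (by
    rw [← R.map_comp, Functor.comp_map, ← R.map_comp]
    exact congrArg R.map a.comm₁₂.symm)
  comm₁₂ := by
    change R.map a.τ₁ ≫ R.map (R₂.map S₂.f) = R.map S.f ≫ R.map a.τ₂
    rw [← R.map_comp, ← R.map_comp]
    exact congrArg R.map a.comm₁₂
  comm₂₃ := (cokernel.π_desc _ _ _).symm

theorem mapT_τ₃_kap : (mapT (R := R) a).τ₃ ≫ kap (R₂ ⋙ R) S₂ = kap R S ≫ R.map a.τ₃ := by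
  rw [← cancel_epi (cokernel.π (R.map S.f))]
  have h1 : cokernel.π (R.map S.f) ≫ (mapT (R := R) a).τ₃ = R.map a.τ₂ ≫ cokernel.π ((R₂ ⋙ R).map S₂.f) :=
    cokernel.π_desc _ _ _
  have h2 : cokernel.π ((R₂ ⋙ R).map S₂.f) ≫ kap (R₂ ⋙ R) S₂ = R.map (R₂.map S₂.g) := π_kap
  have h3 : cokernel.π (R.map S.f) ≫ kap R S = R.map S.g := π_kap
  have h4 : R.map a.τ₂ ≫ R.map (R₂.map S₂.g) = R.map S.g ≫ R.map a.τ₃ := by
    rw [← R.map_comp, ← R.map_comp]
    exact congrArg R.map a.comm₂₃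
  calc cokernel.π (R.map S.f) ≫ (mapT (R := R) a).τ₃ ≫ kap (R₂ ⋙ R) S₂
      = (cokernel.π (R.map S.f) ≫ (mapT (R := R) a).τ₃) ≫ kap (R₂ ⋙ R) S₂ := (Category.assoc _ _ _).symm
    _ = (R.map a.τ₂ ≫ cokernel.π ((R₂ ⋙ R).map S₂.f)) ≫ kap (R₂ ⋙ R) S₂ := congrArg (· ≫ kap (R₂ ⋙ R) S₂) h1
    _ = R.map a.τ₂ ≫ cokernel.π ((R₂ ⋙ R).map S₂.f) ≫ kap (R₂ ⋙ R) S₂ := Category.assoc _ _ _
    _ = R.map a.τ₂ ≫ R.map (R₂.map S₂.g) := congrArg (R.map a.τ₂ ≫ ·) h2
    _ = R.map S.g ≫ R.map a.τ₃ := h4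
    _ = (cokernel.π (R.map S.f) ≫ kap R S) ≫ R.map a.τ₃ := congrArg (· ≫ R.map a.τ₃) h3.symm
    _ = _ := Category.assoc _ _ _

include hS hS₂ in
/-- If `R K → R R₂ K'` has its values in the image of `R R₂ I'`, the classes killed by the edge map die in
`Ext^m(A, R R₂ N')`. -/
theorem comp_eq_zero₂ (h : R.map a.τ₃ ≫ cokernel.π (kap (R₂ ⋙ R) S₂) = 0) (A : C) (m : ℕ)
    (hN : ∀ p q, p + (q + 2) + 1 = m → Subsingleton (Ext.{w} A ((R.rightDerived (q + 2)).obj S.X₁) p))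
    (x : Ext.{w} A (R.obj S.X₁) m) (hx : edge adj A S.X₁ m x = 0) :
    x.comp (Ext.mk₀ (R.map a.τ₁)) (add_zero m) = 0 := by
  have hm := mono_kap (R := R₂ ⋙ R) hS₂
  have hK := shortExact_K (R := R₂ ⋙ R) hS₂
  have hmf : Mono (K (R₂ ⋙ R) S₂).f := hK.mono_f
  let θ : R.obj S.X₃ ⟶ Bc (R₂ ⋙ R) S₂ := hK.exact.lift (R.map a.τ₃) h
  have hθ : θ ≫ kap (R₂ ⋙ R) S₂ = R.map a.τ₃ := hK.exact.lift_f _ h
  have hθ' : kap R S ≫ θ = (mapT (R := R) a).τ₃ := by
    rw [← cancel_mono (kap (R₂ ⋙ R) S₂)]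
    exact (Category.assoc _ _ _).trans ((congrArg (kap R S ≫ ·) hθ).trans (mapT_τ₃_kap a).symm)
  exact comp_eq_zero adj hS (shortExact_T (R := R₂ ⋙ R) hS₂) (mapT a) θ hθ' A m hN x hx

end Two

end Groth.Agent.Vancyc.H29.EdgeZero
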