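import Groth.Agent.Etrest.FLCLocal
import Groth.Agent.Lefpen.H709.UnitLes
import Groth.Agent.Sga4h.TensorConst
import Groth.Agent.Sga5.H855.EtUnit
import Groth.Agent.Etcore.ZetaMap
import Groth.Agent.Etcore.Torsion
import Mathlib.AlgebraicGeometry.AffineSpace

/-!
# Direct images along bundles with fibre `G_m`

`IsGm π`: étale locally on the base `π` is the projection of the punctured affine line.  `StmtGm ν` is the
statement of the milestone S4178 for the punctured line.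
-/

set_option autoImplicit false
universe u
open CategoryTheory CategoryTheory.Limits AlgebraicGeometry Opposite

namespace Groth.Agent.Vancyc.H29.GmBundle

open Groth.Agent Groth.Agent.Sga5.H855.EtUnit Groth.Agent.Etrest.FLCLocal

/-- The punctured affine line over `S`. -/
noncomputable abbrev gmO (S : Scheme.{u}) : (𝔸(ULift.{u} (Fin 1); S)).Opens :=
  ⨆ a : ULift.{u} (Fin 1), (𝔸(ULift.{u} (Fin 1); S)).basicOpen (AffineSpace.coord S a)

/-- Its projection. -/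
noncomputable abbrev qm (S : Scheme.{u}) : (gmO S : Scheme.{u}) ⟶ S :=
  (gmO S).ι ≫ (𝔸(ULift.{u} (Fin 1); S) ↘ S)

/-- The statement of S4178 for the punctured line. -/
def StmtGm (ν : ℕ) : Prop := ∀ (S : Scheme.{u}), IsUnit (ν : Γ(S, ⊤)) → ∀ (L : EtCoh.Ab S), EtCoh.KilledBy ν L →
  (∀ i : ℕ, i ≠ 0 → i ≠ 1 → IsZero ((EtCoh.Rpush (qm S) i).obj ((EtCoh.pull (qm S)).obj L))) ∧
    IsIso ((EtCoh.pullPushAdj (qm S)).unit.app L) ∧
    Nonempty ((EtCoh.Rpush (qm S) 1).obj (EtDual.tate (gmO S : Scheme.{u}) ν 1) ≅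
      EtCoh.const S (ZMod ν))

/-- Étale locally on the base the projection of the punctured line. -/
def IsGm {T Z : Scheme.{u}} (π : T ⟶ Z) : Prop :=
  ∀ z : Z, ∃ (V : Scheme.{u}) (h : V ⟶ Z) (_ : Etale h) (v : V) (j : (gmO V : Scheme.{u}) ⟶ T),
    h v = z ∧ IsPullback j (qm V) π h

theorem isZero_of_family {Y : Scheme.{u}} (F : EtCoh.Ab Y)
    (h : ∀ y : Y, ∃ (V : Scheme.{u}) (h : V ⟶ Y) (v : V), h v = y ∧ IsZero ((EtCoh.pull h).obj F)) :
    IsZero F := by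
  have h1 : IsIso (0 : F ⟶ F) := isIso_of_family _ fun y => by
    obtain ⟨V, h, v, hv, hz⟩ := h y
    exact ⟨V, h, v, hv, IsZero.isIso hz hz _⟩
  rw [IsZero.iff_id_eq_zero, ← IsIso.hom_inv_id (0 : F ⟶ F), zero_comp]

theorem isUnit_natCast {X Y : Scheme.{u}} (f : X ⟶ Y) (n : ℕ) (hn : IsUnit (n : Γ(Y, ⊤))) :
    IsUnit (n : Γ(X, ⊤)) := by
  have := hn.map f.appTop.hom
  rwa [map_natCast] at this

variable {T Z : Scheme.{u}} {π : T ⟶ Z} {ν : ℕ}

theorem isZero_Rpush (hS : StmtGm.{u} ν) (hν : IsUnit (ν : Γ(Z, ⊤))) (H : IsGm π) (F : EtCoh.Ab Z)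
    (hF : EtCoh.KilledBy ν F) (i : ℕ) : IsZero ((EtCoh.Rpush π (i + 2)).obj ((EtCoh.pull π).obj F)) := by
  apply isZero_of_family
  intro z
  obtain ⟨V, h, hh, v, j, hv, hp⟩ := H z
  refine ⟨V, h, v, hv, ?_⟩
  have hj : Etale j := MorphismProperty.of_isPullback hp.flip hh
  obtain ⟨e⟩ := pull_Rpush_iso h π j (qm V) hp ((EtCoh.pull π).obj F) (i + 2)
  refine IsZero.of_iso ?_ e
  have e2 : (EtCoh.pull j).obj ((EtCoh.pull π).obj F) ≅ (EtCoh.pull (qm V)).obj ((EtCoh.pull h).obj F) :=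
    (EtCore.pullComp j π).symm.app F ≪≫ eqToIso (by rw [hp.w]) ≪≫ (EtCore.pullComp (qm V) h).app F
  exact (((hS V (isUnit_natCast h ν hν) _ (Etcore.Torsion.killedBy_pull ν h F hF)).1 (i + 2) (by omega) (by omega)).of_iso
    ((EtCoh.Rpush (qm V) (i + 2)).mapIso e2))

theorem isIso_unit (hS : StmtGm.{u} ν) (hν : IsUnit (ν : Γ(Z, ⊤))) (H : IsGm π) (F : EtCoh.Ab Z)
    (hF : EtCoh.KilledBy ν F) : IsIso ((EtCoh.pullPushAdj π).unit.app F) := by
  apply isIso_of_family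
  intro z
  obtain ⟨V, h, hh, v, j, hv, hp⟩ := H z
  refine ⟨V, h, v, hv, ?_⟩
  rw [isIso_unit_iff (f := π) (g := h) (f' := qm V) (g' := j) hp.w F (isIso_baseChange0_of_etale hp _)]
  exact (hS V (isUnit_natCast h ν hν) _ (Etcore.Torsion.killedBy_pull ν h F hF)).2.1

/-- The unit of the composite adjunction. -/
theorem isIso_unit_comp {X X' Y : Scheme.{u}} (π : X ⟶ Y) (ν : X' ⟶ X) (F : EtCoh.Ab Y)
    (h : IsIso ((EtCoh.pullPushAdj (ν ≫ π)).unit.app F)) :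
    IsIso ((EtCoh.pullPushAdj π).unit.app F ≫
      (EtCoh.push π).map ((EtCoh.pullPushAdj ν).unit.app ((EtCoh.pull π).obj F))) := by
  have h1 := Lefpen.H709.UnitLes.isIso_unit_of_iso (EtCoh.pullPushAdj (ν ≫ π))
    ((EtCoh.pullPushAdj π).comp (EtCoh.pullPushAdj ν)) (EtCore.pullComp ν π) F h
  have h2 : ((EtCoh.pullPushAdj π).comp (EtCoh.pullPushAdj ν)).unit.app F =
      (EtCoh.pullPushAdj π).unit.app F ≫
      (EtCoh.push π).map ((EtCoh.pullPushAdj ν).unit.app ((EtCoh.pull π).obj F)) := by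
    simp
  rwa [h2] at h1

section Card

variable {k : Type u} [Field k] {n : ℕ} [NeZero n] {ζ : k} (hζ : IsPrimitiveRoot ζ n) (hn : (n : k) ≠ 0)

include hζ hn in
theorem nonempty_const_iso_tate {X : Scheme.{u}} (σ : k →+* Γ(X, ⊤)) (d : ℕ) :
    Nonempty (EtCoh.const X (ZMod n) ≅ EtDual.tate X n d) := by
  have := Etcore.ZetaMap.isIso_zmu n hζ σ hn
  exact Sga4h.TensorConst.nonempty_tate_iso_const n (asIso (Etcore.ZetaMap.zmu n hζ σ)) d

omit [NeZero n] in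
include hn in
theorem isUnit_of_ringHom {X : Scheme.{u}} (σ : k →+* Γ(X, ⊤)) : IsUnit (n : Γ(X, ⊤)) := by
  have := (isUnit_iff_ne_zero.2 hn).map σ
  rwa [map_natCast] at this

theorem card_stalk_const {X : Scheme.{u}} (M : Type) [AddCommGroup M] {Ω : Type u} [Field Ω] [IsSepClosed Ω]
    (ξ : Spec (CommRingCat.of Ω) ⟶ X) :
    Nat.card ((EtCoh.stalk ξ).obj (EtCoh.const X M) : AddCommGrpCat.{u + 1}) = Nat.card M := by
  let e := Etbase.OverStalk.sheafFiberConstantSheafIso (Scheme.pointSmallEtale ξ)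
    (AddCommGrpCat.of (ULift.{u + 1} M))
  exact (Nat.card_congr e.addCommGroupIsoToAddEquiv.toEquiv).trans (Nat.card_congr Equiv.ulift)

include hζ hn in
/-- The stalks of `R^1 π_* ℤ/n` have order `n`. -/
theorem card_stalk_Rpush (hS : StmtGm.{u} n) (σ : k →+* Γ(Z, ⊤)) (H : IsGm π) {Ω : Type u} [Field Ω]
    [IsSepClosed Ω] (ξ : Spec (CommRingCat.of Ω) ⟶ Z) :
    Nat.card ((EtCoh.stalk ξ).obj ((EtCoh.Rpush π 1).obj ((EtCoh.pull π).obj (EtCoh.const Z (ZMod n)))) :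
      AddCommGrpCat.{u + 1}) = n := by
  obtain ⟨V, h, hh, v, j, hv, hp⟩ := H (ξ default)
  have hj : Etale j := MorphismProperty.of_isPullback hp.flip hh
  obtain ⟨l, hl, -⟩ := Scheme.exists_fac_of_etale_of_isSepClosed h ξ v hv
  subst hl
  let τ : k →+* Γ(V, ⊤) := h.appTop.hom.comp σ
  let τ' : k →+* Γ((gmO V : Scheme.{u}), ⊤) := (qm V).appTop.hom.comp τ
  obtain ⟨e⟩ := pull_Rpush_iso h π j (qm V) hp ((EtCoh.pull π).obj (EtCoh.const Z (ZMod n))) 1
  obtain ⟨e3⟩ := nonempty_const_iso_tate hζ hn τ' 1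
  have hV : IsUnit (n : Γ(V, ⊤)) := isUnit_of_ringHom hn τ
  obtain ⟨e4⟩ := (hS V hV (EtCoh.const V (ZMod n)) (Sga4h.TensorConst.killedBy_const n)).2.2
  have e2 : (EtCoh.pull j).obj ((EtCoh.pull π).obj (EtCoh.const Z (ZMod n))) ≅
      EtDual.tate (gmO V : Scheme.{u}) n 1 :=
    (EtCoh.pull j).mapIso (EtCore.pullConst π (ZMod n)) ≪≫ EtCore.pullConst j (ZMod n) ≪≫ e3
  have e5 : (EtCoh.stalk (l ≫ h)).obj ((EtCoh.Rpush π 1).obj ((EtCoh.pull π).obj (EtCoh.const Z (ZMod n)))) ≅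
      (EtCoh.stalk l).obj (EtCoh.const V (ZMod n)) :=
    (Etbase.StalkPull.stalkPullIso h l).app _ ≪≫
      (EtCoh.stalk l).mapIso (e ≪≫ (EtCoh.Rpush (qm V) 1).mapIso e2 ≪≫ e4)
  rw [Nat.card_congr e5.addCommGroupIsoToAddEquiv.toEquiv, card_stalk_const, Nat.card_zmod]

end Card

end Groth.Agent.Vancyc.H29.GmBundle
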