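import Groth.Agent.Vancyc.H29.InjHpull
import Groth.Agent.Etcore.Stalks

/-!
# A criterion for `Kills`

`R^1 π_* N` has stalks of order `n` and there are local classes in `H^1(X ×_Y V₀, N)` which have order `n` on
every non-empty `V → V₀` and die on `X' ×_Y V₀`: then every class dies locally on `X'`.
-/

set_option autoImplicit false
universe u
open CategoryTheory CategoryTheory.Limits AlgebraicGeometry Opposite CategoryTheory.Abelian
open scoped Groth.Agent.Etcore.EtInst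
open Groth.Agent.Etcore.EtInst

namespace Groth.Agent.Vancyc.H29.KillsOf

open Groth.Agent Groth.Agent.Etcore Groth.Agent.Etcore.HQ Groth.Agent.Etcore.RpushLoc
open Groth.Agent.Etcore.HpullCalc Groth.Agent.EtpbcA.StalkTools Groth.Agent.Vancyc.H29.InjHpull

attribute [local instance] Groth.Agent.Etcore.HQ.pfl

variable {X X' Y : Scheme.{u}} (π : X ⟶ Y) (ν : X' ⟶ X)

theorem exists_nsmul_eq {A : Type*} [AddCommGroup A] {n : ℕ} (hn : 0 < n) (hA : Nat.card A = n) (x : A)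
    (hx : ∀ d, 0 < d → d < n → d • x ≠ 0) (y : A) : ∃ m : ℤ, y = m • x := by
  have hfin : Finite A := Nat.finite_of_card_ne_zero (by omega)
  have h1 : addOrderOf x = n := by
    refine le_antisymm (hA ▸ addOrderOf_le_card) ?_
    by_contra h
    exact hx (addOrderOf x) (addOrderOf_pos x) (not_le.1 h) (addOrderOf_nsmul_eq_zero x)
  have h2 : AddSubgroup.zmultiples x = ⊤ := by
    apply AddSubgroup.eq_top_of_card_eq
    rw [Nat.card_zmultiples, h1, hA]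
  have h3 : y ∈ AddSubgroup.zmultiples x := h2 ▸ AddSubgroup.mem_top y
  obtain ⟨m, hm⟩ := AddSubgroup.mem_zmultiples_iff.1 h3
  exact ⟨m, hm.symm⟩

theorem mm_comp {V V' V'' : Y.Etale} (k : V'' ⟶ V') (k' : V' ⟶ V) : mm π (k ≫ k') = mm π k ≫ mm π k' :=
  congrArg (fun t => t.left) ((EtCoh.bc π).map_comp k k')

/-- `secP` as a homomorphism. -/
noncomputable def secPHom (F : EtCoh.Ab X) (V : Y.Etale) : EtCoh.sect F ((EtCoh.bc π).obj V) →+ HQ F (pr π V) 0 where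
  toFun := secP π F V
  map_zero' := sec_zero F _ _ _
  map_add' := sec_add F _ _ _

/-- A connecting class of a locally liftable section is locally zero. -/
theorem res_δ_eq_zero {S : ShortComplex (EtCoh.Ab X)} (hS : S.ShortExact) {V V' : Y.Etale} (k : V' ⟶ V)
    (s : EtCoh.sect ((EtCoh.push π).obj S.X₃) V) (t : EtCoh.sect ((EtCoh.push π).obj S.X₂) V')
    (ht : ((EtCoh.push π).map S.g).hom.app (op V') t = ((EtCoh.push π).obj S.X₃).obj.map k.op s) :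
    res S.X₁ (mm π k) (mm_pr π k) 1 (δ hS (pr π V) 0 (secP π S.X₃ V s)) = 0 := by
  rw [res_δ, res_secP]
  have e : secP π S.X₃ V' (S.X₃.obj.map ((EtCoh.bc π).map k).op s) =
      map S.g (pr π V') 0 (secP π S.X₂ V' t) := by
    rw [map_secP]
    exact congrArg (secP π S.X₃ V') ht.symm
  rw [e, δ_map]

/-- The map `(π_* S.X₃)(W) → stalk of coker (π_* S.X₂ → π_* S.X₃)`. -/
noncomputable def cl (S : ShortComplex (EtCoh.Ab X)) {Ω : Type u} [Field Ω] [IsSepClosed Ω]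
    (ζ : Spec (CommRingCat.of Ω) ⟶ Y) {W : Y.Etale} (w : (Scheme.pointSmallEtale ζ).fiber.obj W) :
    EtCoh.sect ((EtCoh.push π).obj S.X₃) W →+
      ((EtCoh.stalk ζ).obj (cokernel ((EtCoh.push π).map S.g)) : AddCommGrpCat.{u + 1}) :=
  ((EtCoh.stalk ζ).map (cokernel.π ((EtCoh.push π).map S.g))).hom.comp
    ((Scheme.pointSmallEtale ζ).toPresheafFiber W w ((EtCoh.push π).obj S.X₃).obj).hom

theorem exists_of_cl_eq_zero {S : ShortComplex (EtCoh.Ab X)} (hS : S.ShortExact) {Ω : Type u} [Field Ω]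
    [IsSepClosed Ω] (ζ : Spec (CommRingCat.of Ω) ⟶ Y) {W : Y.Etale}
    (w : (Scheme.pointSmallEtale ζ).fiber.obj W) (s : EtCoh.sect ((EtCoh.push π).obj S.X₃) W)
    (h : cl π S ζ w s = 0) :
    ∃ (W' : Y.Etale) (k : W' ⟶ W) (w' : W'.left), k.left w' = fibPt ζ w ∧
      res S.X₁ (mm π k) (mm_pr π k) 1 (δ hS (pr π W) 0 (secP π S.X₃ W s)) = 0 := by
  have hex : (ShortComplex.mk ((EtCoh.push π).map S.g) (cokernel.π ((EtCoh.push π).map S.g))
      (cokernel.condition _)).Exact := ShortComplex.exact_of_g_is_cokernel _ (cokernelIsCokernel _)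
  have hex' := hex.map (EtCoh.stalk ζ)
  rw [ShortComplex.ab_exact_iff] at hex'
  obtain ⟨p, hp⟩ := hex' (germ ζ w s) h
  obtain ⟨W', k, w', hw', t, ht⟩ := (locIm_iff ζ ((EtCoh.push π).map S.g) s w).2 ⟨p, hp⟩
  exact ⟨W', k, w', hw', res_δ_eq_zero π hS k s t ht⟩

theorem card_coker (N : EtCoh.Ab X) {Ω : Type u} [Field Ω] [IsSepClosed Ω]
    (ζ : Spec (CommRingCat.of Ω) ⟶ Y) :
    Nat.card ((EtCoh.stalk ζ).obj (cokernel ((EtCoh.push π).map (injSeq N).g)) : AddCommGrpCat.{u + 1}) =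
      Nat.card ((EtCoh.stalk ζ).obj ((EtCoh.Rpush π 1).obj N) : AddCommGrpCat.{u + 1}) := by
  obtain ⟨e⟩ := DerLES.nonempty_iso_one_of_injective (EtCoh.push π) (injSeq_shortExact N)
  exact Nat.card_congr ((EtCoh.stalk ζ).mapIso e).symm.addCommGroupIsoToAddEquiv.toEquiv

theorem res_g_res (N : EtCoh.Ab X) {V V₀ : Y.Etale} (k : V ⟶ V₀) (κ : HQ N (pr π V₀) 1)
    (h : res N (g ν ((EtCoh.bc π).obj V₀)) (g_hom ν ((EtCoh.bc π).obj V₀)) 1 κ = 0) :
    res N (g ν ((EtCoh.bc π).obj V)) (g_hom ν ((EtCoh.bc π).obj V)) 1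
      (res N (mm π k) (mm_pr π k) 1 κ) = 0 := by
  have e : ((EtCoh.bc ν).map ((EtCoh.bc π).map k)).left ≫ g ν ((EtCoh.bc π).obj V₀) =
      g ν ((EtCoh.bc π).obj V) ≫ mm π k := by
    have h1 := SecPull.toFst_postcomp ν (𝟙 ((EtCoh.bc ν).obj ((EtCoh.bc π).obj V))) ((EtCoh.bc π).map k)
    rw [Category.id_comp] at h1
    have h2 := SecPull.toFst_precomp ν ((EtCoh.bc ν).map ((EtCoh.bc π).map k))
      (𝟙 ((EtCoh.bc ν).obj ((EtCoh.bc π).obj V₀)))
    rw [Category.comp_id] at h2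
    exact h2.symm.trans h1
  have e' : ((EtCoh.bc ν).map ((EtCoh.bc π).map k)).left ≫
      ((EtCoh.bc ν).obj ((EtCoh.bc π).obj V₀)).hom ≫ ν = ((EtCoh.bc ν).obj ((EtCoh.bc π).obj V)).hom ≫ ν := by
    rw [← Category.assoc]
    exact congrArg (· ≫ ν) (EtpbcB.Big.et_w ((EtCoh.bc ν).map ((EtCoh.bc π).map k)))
  have w1 : (g ν ((EtCoh.bc π).obj V) ≫ mm π k) ≫ pr π V₀ =
      ((EtCoh.bc ν).obj ((EtCoh.bc π).obj V)).hom ≫ ν := by
    rw [Category.assoc, mm_pr]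
    exact g_hom ν _
  refine (res_res N (mm π k) (mm_pr π k) (g ν ((EtCoh.bc π).obj V)) (g_hom ν _) _ rfl w1 1 κ).trans ?_
  have w2 : (((EtCoh.bc ν).map ((EtCoh.bc π).map k)).left ≫ g ν ((EtCoh.bc π).obj V₀)) ≫ pr π V₀ =
      ((EtCoh.bc ν).obj ((EtCoh.bc π).obj V)).hom ≫ ν := by rw [e]; exact w1
  refine (res_congr N e.symm w1 w2 1 κ).trans ?_
  refine (res_res N (g ν ((EtCoh.bc π).obj V₀)) (g_hom ν _)
    ((EtCoh.bc ν).map ((EtCoh.bc π).map k)).left e' _ rfl w2 1 κ).symm.trans ?_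
  exact (congrArg _ h).trans (map_zero _)

/-- **Criterion for `Kills`.** -/
theorem kills_of {N : EtCoh.Ab X} (n : ℕ) (hn : 0 < n)
    (hR : ∀ (Ω : Type u) [Field Ω] [IsSepClosed Ω] (ζ : Spec (CommRingCat.of Ω) ⟶ Y),
      Nat.card ((EtCoh.stalk ζ).obj ((EtCoh.Rpush π 1).obj N) : AddCommGrpCat.{u + 1}) = n)
    (hκ : ∀ y : Y, ∃ (V₀ : Y.Etale) (v₀ : V₀.left) (κ : HQ N (pr π V₀) 1), V₀.hom v₀ = y ∧
      (∀ (V : Y.Etale) (k : V ⟶ V₀), Nonempty V.left → ∀ d, 0 < d → d < n →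
        d • res N (mm π k) (mm_pr π k) 1 κ ≠ 0) ∧
      res N (g ν ((EtCoh.bc π).obj V₀)) (g_hom ν ((EtCoh.bc π).obj V₀)) 1 κ = 0) :
    Kills π ν N := by
  intro V ξ v
  obtain ⟨V₀, v₀, κ, hv₀, hne, h0⟩ := hκ (V.hom v)
  obtain ⟨Ω, _, _, ζ, hζ⟩ := exists_geomPt v
  obtain ⟨l, hl, -⟩ := Scheme.exists_fac_of_etale_of_isSepClosed V₀.hom (ζ ≫ V.hom) v₀ (by
    rw [hv₀, Scheme.Hom.comp_apply, hζ])
  let x : (Scheme.pointSmallEtale (ζ ≫ V.hom)).fiber.obj V := fibMk ζ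
  let x₀ : (Scheme.pointSmallEtale (ζ ≫ V.hom)).fiber.obj V₀ := Over.homMk l hl
  obtain ⟨W, a, b, w, hwa, hwb⟩ := exists_common (ζ ≫ V.hom) x x₀
  have hpt : a.left (fibPt (ζ ≫ V.hom) w) = v := by
    rw [← fibPt_map, hwa]
    exact (fibPt_fibMk ζ).trans hζ
  set S := injSeq N with hSdef
  have hS : S.ShortExact := injSeq_shortExact N
  obtain ⟨s, hs⟩ := exists_δ_eq hS (pr π W) 0 (res N (mm π a) (mm_pr π a) 1 ξ)
    (eq_zero_of_injective _ _ 0 _)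
  obtain ⟨t, ht⟩ := exists_δ_eq hS (pr π W) 0 (res N (mm π b) (mm_pr π b) 1 κ)
    (eq_zero_of_injective _ _ 0 _)
  obtain ⟨s, rfl⟩ := (secP_bijective π S.X₃ W).2 s
  obtain ⟨t, rfl⟩ := (secP_bijective π S.X₃ W).2 t
  have hord : ∀ d, 0 < d → d < n → d • cl π S (ζ ≫ V.hom) w t ≠ 0 := by
    intro d hd hd' h
    rw [← map_nsmul] at h
    obtain ⟨W', k, w', -, hz⟩ := exists_of_cl_eq_zero π hS (ζ ≫ V.hom) w (d • t) h
    have e1 : secP π S.X₃ W (d • t) = d • secP π S.X₃ W t := map_nsmul (secPHom π S.X₃ W) d t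
    rw [e1, map_nsmul, map_nsmul] at hz
    have hz' : d • res N (mm π k) (mm_pr π k) 1 (res N (mm π b) (mm_pr π b) 1 κ) = 0 :=
      (congrArg (fun z => d • res N (mm π k) (mm_pr π k) 1 z) ht).symm.trans hz
    exact hne W' (k ≫ b) ⟨w'⟩ d hd hd' ((congrArg (fun z => d • z) (res_res N (mm π b) (mm_pr π b)
      (mm π k) (mm_pr π k) (mm π (k ≫ b)) (mm_comp π k b).symm (mm_pr π _) 1 κ).symm).trans hz')
  obtain ⟨m, hm⟩ := exists_nsmul_eq hn ((card_coker π N (ζ ≫ V.hom)).trans (hR Ω (ζ ≫ V.hom)))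
    (cl π S (ζ ≫ V.hom) w t) hord (cl π S (ζ ≫ V.hom) w s)
  rw [← map_zsmul, ← sub_eq_zero, ← map_sub] at hm
  obtain ⟨W', k, w', hw', hz⟩ := exists_of_cl_eq_zero π hS (ζ ≫ V.hom) w (s - m • t) hm
  have e1 : secP π S.X₃ W (s - m • t) = secP π S.X₃ W s - m • secP π S.X₃ W t :=
    (map_sub (secPHom π S.X₃ W) s (m • t)).trans
      (congrArg (secP π S.X₃ W s - ·) (map_zsmul (secPHom π S.X₃ W) m t))
  rw [e1, map_sub, map_zsmul, map_sub, map_zsmul, hs, ht, sub_eq_zero] at hz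
  refine ⟨W', k ≫ a, w', ?_, ?_⟩
  · rw [← hpt, ← hw']
    exact Scheme.Hom.comp_apply _ _ _
  · have e2 : res N (mm π (k ≫ a)) (mm_pr π (k ≫ a)) 1 ξ = m • res N (mm π (k ≫ b)) (mm_pr π (k ≫ b)) 1 κ := by
      refine (res_res N (mm π a) (mm_pr π a) (mm π k) (mm_pr π k) (mm π (k ≫ a)) (mm_comp π k a).symm
        (mm_pr π _) 1 ξ).symm.trans (hz.trans ?_)
      congr 1
      exact res_res N (mm π b) (mm_pr π b) (mm π k) (mm_pr π k) (mm π (k ≫ b)) (mm_comp π k b).symm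
        (mm_pr π _) 1 κ
    refine (congrArg _ e2).trans ((map_zsmul (res N (g ν ((EtCoh.bc π).obj W'))
      (g_hom ν ((EtCoh.bc π).obj W')) 1) m _).trans ?_)
    exact (congrArg (m • ·) (res_g_res π ν N (k ≫ b) κ h0)).trans (smul_zero m)

end Groth.Agent.Vancyc.H29.KillsOf
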