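import Groth.Agent.Etcore.HQ
import Groth.Agent.Etcore.KummerCls

/-!
# Kummer classes: the kernel, and transport from `H^i(W, q^* π^* M)` to `H^i(W, M)`
-/

set_option autoImplicit false
universe u
open CategoryTheory CategoryTheory.Limits AlgebraicGeometry Opposite CategoryTheory.Abelian
open scoped Groth.Agent.Etcore.EtInst Groth.Agent.Etcore.HC
open Groth.Agent.Etcore.EtInst

namespace Groth.Agent.Vancyc.H29.KumTr

open Groth.Agent Groth.Agent.Etcore Groth.Agent.Etcore.HQ Groth.Agent.Etcore.PullCoh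
open Groth.Agent.Etcore.HpullCalc Groth.Agent.Etcore.KummerCls

section Tr

variable {X Y : Scheme.{u}} (π : X ⟶ Y) (M : Type) [AddCommGroup M]

/-- `q^* π^* M ≅ M`. -/
noncomputable def ct {W : Scheme.{u}} (q : W ⟶ X) :
    (EtCoh.pull q).obj ((EtCoh.pull π).obj (EtCoh.const Y M)) ⟶ EtCoh.const W M :=
  (EtCoh.pull q).map (EtCore.pullConst π M).hom ≫ (EtCore.pullConst q M).hom

instance {W : Scheme.{u}} (q : W ⟶ X) : IsIso (ct π M q) := by unfold ct; infer_instance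

/-- `H^i(W, q^* π^* M) → H^i(W, M)`. -/
noncomputable def tr {W : Scheme.{u}} (q : W ⟶ X) (i : ℕ) :
    HQ ((EtCoh.pull π).obj (EtCoh.const Y M)) q i →+ HH W (EtCoh.const W M) i :=
  HHmap (ct π M q) i

theorem tr_bijective {W : Scheme.{u}} (q : W ⟶ X) (i : ℕ) : Function.Bijective (tr π M q i) :=
  HHmap_bijective (ct π M q) i

theorem th_ct {W W' : Scheme.{u}} {q : W ⟶ X} {q' : W' ⟶ X} (k : W' ⟶ W) (h : k ≫ q = q') :
    th k q q' h ((EtCoh.pull π).obj (EtCoh.const Y M)) ≫ ct π M q' =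
      (EtCoh.pull k).map (ct π M q) ≫ (EtCore.pullConst k M).hom := by
  rw [ct, ct, ← Category.assoc, ← th_nat, Category.assoc, Functor.map_comp, Category.assoc,
    pullConst_comp k q q' h M]

theorem tr_res {W W' : Scheme.{u}} {q : W ⟶ X} {q' : W' ⟶ X} (k : W' ⟶ W) (h : k ≫ q = q') (i : ℕ)
    (x : HQ ((EtCoh.pull π).obj (EtCoh.const Y M)) q i) :
    tr π M q' i (res _ k h i x) = HC.HC M k i (tr π M q i x) := by
  rw [tr, tr, res_apply, ← HHmap_comp, th_ct, HHmap_comp, HC.HC_apply, hp_map]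

end Tr

section Kernel

variable {X : Scheme.{u}}

theorem h0_injective : Function.Injective (h0 (X := X)) := by
  intro x y h
  have h1 := (H0 X (EtCoh.Gm X)).symm.injective h
  have h2 := congrArg (Groth.Agent.CurvesA.MuConst.unitOf (X := X) (U := EtCoh.top X)) h1
  rwa [Groth.Agent.CurvesA.MuConst.unitOf_ofUnit, Groth.Agent.CurvesA.MuConst.unitOf_ofUnit] at h2

variable {K : Type u} [Field K] {n : ℕ} [NeZero n] {ζ : K} (hζ : IsPrimitiveRoot ζ n)
  (σ : K →+* Γ(X, ⊤)) (hn : (n : K) ≠ 0)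

/-- The kernel of the Kummer map. -/
theorem exists_pow_eq (x : (Γ(X, ⊤))ˣ) (hx : kap hζ σ hn x = 0) : ∃ y : (Γ(X, ⊤))ˣ, y ^ n = x := by
  obtain ⟨y, hy⟩ := Groth.Agent.Sga4B.KummerH1.exists_of_conn_eq_zero _ _ n _
    (ZetaMap.shortExact_zeta n hζ σ hn) 0 (h0 x) hx
  obtain ⟨y, rfl⟩ := exists_h0_eq y
  refine ⟨y, h0_injective ?_⟩
  rw [h0_pow]
  exact hy

end Kernel

end Groth.Agent.Vancyc.H29.KumTr
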