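import Groth.Agent.Vancyc.H29.GmBundle
import Groth.Agent.Vancyc.H29.KillsOf
import Groth.Agent.Vancyc.H29.KumTr
import Groth.Agent.Sga5x.H857.KumOrd

/-!
# Injectivity of pull-back to a `G_m`-torsor with a compatible `n`-th root

`π : T ⟶ Z` with fibre `G_m`, `ν : T' ⟶ T` such that locally on `Z` both `T` and `T'` are punctured lines and `ν`
pulls the coordinate back to an `n`-th power.  Then `H^m(Z, ℤ/n) → H^m(T, ℤ/n)` is injective.
-/

set_option autoImplicit false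
universe u
open CategoryTheory CategoryTheory.Limits AlgebraicGeometry Opposite CategoryTheory.Abelian
open scoped Groth.Agent.Etcore.EtInst Groth.Agent.Etcore.HC
open Groth.Agent.Etcore.EtInst

namespace Groth.Agent.Vancyc.H29.InjGm

open Groth.Agent Groth.Agent.Etcore Groth.Agent.Etcore.HQ Groth.Agent.Etcore.RpushLoc
open Groth.Agent.Vancyc.H29.GmBundle Groth.Agent.Vancyc.H29.InjHpull Groth.Agent.Vancyc.H29.KumTr
open Groth.Agent.Etcore.KummerCls Groth.Agent.Sga5x.H857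

theorem range_gmO (V : Scheme.{u}) :
    Set.range (gmO V).ι = (Set.range (ZLine.zs (ULift.{u} (Fin 1)) V))ᶜ :=
  ZLine.range_iSup_basicOpen (ULift.{u} (Fin 1)) V

/-- The coordinate of the punctured line. -/
noncomputable def cd (V : Scheme.{u}) : (Γ((gmO V : Scheme.{u}), ⊤))ˣ :=
  (KumOrd.isUnit_coord (gmO V).ι (range_gmO V)).unit

theorem cd_val (V : Scheme.{u}) : (cd V : Γ((gmO V : Scheme.{u}), ⊤)) =
    (gmO V).ι.appTop (AffineSpace.coord V ⟨0⟩) := rfl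

/-- Local form: punctured lines and an `n`-th power map. -/
def PowGm {T T' Z : Scheme.{u}} (π : T ⟶ Z) (ν : T' ⟶ T) (n : ℕ) : Prop :=
  ∀ z : Z, ∃ (V : Scheme.{u}) (h : V ⟶ Z) (_ : Etale h) (v : V) (j : (gmO V : Scheme.{u}) ⟶ T)
    (j' : (gmO V : Scheme.{u}) ⟶ T') (p : (gmO V : Scheme.{u}) ⟶ (gmO V : Scheme.{u}))
    (s : (Γ((gmO V : Scheme.{u}), ⊤))ˣ),
    h v = z ∧ IsPullback j (qm V) π h ∧ IsPullback j' (qm V) (ν ≫ π) h ∧ p ≫ qm V = qm V ∧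
      j' ≫ ν = p ≫ j ∧ p.appTop.hom (cd V : Γ((gmO V : Scheme.{u}), ⊤)) =
        ((s ^ n : (Γ((gmO V : Scheme.{u}), ⊤))ˣ) : Γ((gmO V : Scheme.{u}), ⊤))

variable {T T' Z : Scheme.{u}} {π : T ⟶ Z} {ν : T' ⟶ T} {n : ℕ}

theorem PowGm.isGm (H : PowGm π ν n) : IsGm π := fun z => by
  obtain ⟨V, h, hh, v, j, j', p, s, h1, h2, h3, -⟩ := H z
  exact ⟨V, h, hh, v, j, h1, h2⟩

theorem PowGm.isGm' (H : PowGm π ν n) : IsGm (ν ≫ π) := fun z => by
  obtain ⟨V, h, hh, v, j, j', p, s, h1, h2, h3, -⟩ := H z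
  exact ⟨V, h, hh, v, j', h1, h3⟩

section Model

variable {V : Scheme.{u}} (h : V ⟶ Z) [Etale h] {j : (gmO V : Scheme.{u}) ⟶ T}
  (hp : IsPullback j (qm V) π h)

/-- The isomorphism `V ×_Z T ⟶ G_{m,V}`. -/
noncomputable def e : ((EtCoh.bc π).obj (Scheme.Etale.mk h)).left ⟶ (gmO V : Scheme.{u}) :=
  hp.lift (pullback.snd h π) (pullback.fst h π) pullback.condition.symm

theorem e_j : e h hp ≫ j = pr π (Scheme.Etale.mk h) := hp.lift_fst _ _ _

theorem e_qm : e h hp ≫ qm V = (pullback.fst h π : _ ⟶ V) := hp.lift_snd _ _ _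

omit [Etale h] in
theorem isPullback_aux {P V' G : Scheme.{u}} {a : P ⟶ T} {b : P ⟶ V'} {w : V' ⟶ Z}
    (h4 : IsPullback a b π w) (l : V' ⟶ V) (hw : w = l ≫ h) (j : G ⟶ T) (qv : G ⟶ V)
    (hp : IsPullback j qv π h) (q : P ⟶ G) (h1 : q ≫ j = a) (h2 : q ≫ qv = b ≫ l) :
    IsPullback b q l qv := by
  subst hw h1
  exact (IsPullback.of_right h4 h2 hp).flip

/-- The square attached to `V' → V`. -/
theorem isPullback_e {V' : Z.Etale} (k : V' ⟶ Scheme.Etale.mk h) :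
    IsPullback (pullback.fst V'.hom π : ((EtCoh.bc π).obj V').left ⟶ V'.left) (mm π k ≫ e h hp)
      k.left (qm V) := by
  have h1 : (mm π k ≫ e h hp) ≫ j = pr π V' := by
    rw [Category.assoc, e_j, mm_pr]
  have h2 : mm π k ≫ (pullback.fst h π : ((EtCoh.bc π).obj (Scheme.Etale.mk h)).left ⟶ V) =
      (pullback.fst V'.hom π : ((EtCoh.bc π).obj V').left ⟶ V'.left) ≫ k.left := pullback.lift_fst _ _ _
  have h3 : V'.hom = k.left ≫ h := (MorphismProperty.Over.w k).symm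
  have h4 : IsPullback (pr π V') (pullback.fst V'.hom π : ((EtCoh.bc π).obj V').left ⟶ V'.left) π V'.hom :=
    (IsPullback.of_hasPullback V'.hom π).flip
  exact isPullback_aux h h4 k.left h3 j (qm V) hp _ h1
    ((Category.assoc _ _ _).trans ((congrArg (mm π k ≫ ·) (e_qm h hp)).trans h2))

end Model

section Main

variable {k : Type u} [Field k] [NeZero n] {ζ : k} (hζ : IsPrimitiveRoot ζ n) (hn : (n : k) ≠ 0)
  (σ : k →+* Γ(Z, ⊤))

variable {V : Scheme.{u}} (h : V ⟶ Z) [Etale h] {j : (gmO V : Scheme.{u}) ⟶ T}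
  (hp : IsPullback j (qm V) π h)

/-- The structure of `k`-scheme. -/
noncomputable def σW {W : Scheme.{u}} (f : W ⟶ Z) : k →+* Γ(W, ⊤) := f.appTop.hom.comp σ

/-- The Kummer class on `V ×_Z T`. -/
noncomputable def kum : HQ ((EtCoh.pull π).obj (EtCoh.const Z (ZMod n))) (pr π (Scheme.Etale.mk h)) 1 :=
  (Equiv.ofBijective _ (tr_bijective π (ZMod n) (pr π (Scheme.Etale.mk h)) 1)).symm
    (HC.HC (ZMod n) (e h hp) 1 (kap hζ (σW σ (qm V ≫ h)) hn (cd V)))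

theorem tr_kum : tr π (ZMod n) (pr π (Scheme.Etale.mk h)) 1 (kum hζ hn σ h hp) =
    HC.HC (ZMod n) (e h hp) 1 (kap hζ (σW σ (qm V ≫ h)) hn (cd V)) :=
  (Equiv.ofBijective _ (tr_bijective π (ZMod n) (pr π (Scheme.Etale.mk h)) 1)).apply_symm_apply _

theorem HC_kap' {W W' : Scheme.{u}} (f : W' ⟶ W) (w : W ⟶ Z) (w' : W' ⟶ Z) (hw : f ≫ w = w')
    (x : (Γ(W, ⊤))ˣ) : HC.HC (ZMod n) f 1 (kap hζ (σW σ w) hn x) =
      kap hζ (σW σ w') hn (Units.map f.appTop.hom.toMonoidHom x) := by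
  subst hw
  refine HC_kap hζ (σW σ (f ≫ w)) hn f (σW σ w) ?_ x _ rfl
  rw [σW, σW, Scheme.Hom.comp_appTop]
  rfl

theorem kum_ne (V' : Z.Etale) (l : V' ⟶ Scheme.Etale.mk h) (hne : Nonempty V'.left) (d : ℕ) (hd : 0 < d)
    (hd' : d < n) :
    d • res _ (mm π l) (mm_pr π l) 1 (kum hζ hn σ h hp) ≠ 0 := by
  intro h0
  obtain ⟨v⟩ := hne
  have h1 := congrArg (tr π (ZMod n) (pr π V') 1) h0
  rw [map_nsmul, tr_res, tr_kum, map_zero,
    HC.HC_HC (ZMod n) (mm π l) (e h hp) (mm π l ≫ e h hp) rfl,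
    HC_kap' hζ hn σ (mm π l ≫ e h hp) (qm V ≫ h) _ rfl, ← kap_pow] at h1
  obtain ⟨y, hy⟩ := exists_pow_eq hζ _ hn _ h1
  have h2 : n ∣ d := KumOrd.dvd_of_pow_eq_pow (gmO V).ι (range_gmO V) l.left _ _
    (isPullback_e h hp l) v n d (y : Γ(((EtCoh.bc π).obj V').left, ⊤)) (by
      have h3 := congrArg Units.val hy
      rw [Units.val_pow_eq_pow_val, Units.val_pow_eq_pow_val] at h3
      exact h3)
  exact absurd (Nat.le_of_dvd hd h2) (not_le.2 hd')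

/-- The Kummer class dies on `V ×_Z T'`. -/
theorem res_kum {j' : (gmO V : Scheme.{u}) ⟶ T'} (hp' : IsPullback j' (qm V) (ν ≫ π) h)
    (p : (gmO V : Scheme.{u}) ⟶ (gmO V : Scheme.{u})) (s : (Γ((gmO V : Scheme.{u}), ⊤))ˣ)
    (hpq : p ≫ qm V = qm V) (hj : j' ≫ ν = p ≫ j)
    (hs : p.appTop.hom (cd V : Γ((gmO V : Scheme.{u}), ⊤)) =
        ((s ^ n : (Γ((gmO V : Scheme.{u}), ⊤))ˣ) : Γ((gmO V : Scheme.{u}), ⊤))) :
    res _ (g ν ((EtCoh.bc π).obj (Scheme.Etale.mk h))) (g_hom ν _) 1 (kum hζ hn σ h hp) = 0 := by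
  let W' := (EtCoh.bc ν).obj ((EtCoh.bc π).obj (Scheme.Etale.mk h))
  let gg : W'.left ⟶ ((EtCoh.bc π).obj (Scheme.Etale.mk h)).left := g ν ((EtCoh.bc π).obj (Scheme.Etale.mk h))
  let fs : ((EtCoh.bc π).obj (Scheme.Etale.mk h)).left ⟶ V := pullback.fst h π
  have hgg : gg ≫ pr π (Scheme.Etale.mk h) = W'.hom ≫ ν := g_hom ν _
  have hfs : pr π (Scheme.Etale.mk h) ≫ π = fs ≫ h := pullback.condition.symm
  have hw : W'.hom ≫ ν ≫ π = (gg ≫ fs) ≫ h := by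
    calc W'.hom ≫ ν ≫ π = (W'.hom ≫ ν) ≫ π := (Category.assoc _ _ _).symm
      _ = (gg ≫ pr π (Scheme.Etale.mk h)) ≫ π := congrArg (· ≫ π) hgg.symm
      _ = gg ≫ pr π (Scheme.Etale.mk h) ≫ π := Category.assoc _ _ _
      _ = gg ≫ fs ≫ h := congrArg (gg ≫ ·) hfs
      _ = _ := (Category.assoc _ _ _).symm
  let e' : W'.left ⟶ (gmO V : Scheme.{u}) := hp'.lift W'.hom (gg ≫ fs) hw
  have he1 : e' ≫ j' = W'.hom := hp'.lift_fst _ _ _
  have he2 : e' ≫ qm V = gg ≫ fs := hp'.lift_snd _ _ _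
  have he : gg ≫ e h hp = e' ≫ p := by
    apply hp.hom_ext
    · calc (gg ≫ e h hp) ≫ j = gg ≫ e h hp ≫ j := Category.assoc _ _ _
        _ = gg ≫ pr π (Scheme.Etale.mk h) := congrArg (gg ≫ ·) (e_j h hp)
        _ = W'.hom ≫ ν := hgg
        _ = (e' ≫ j') ≫ ν := congrArg (· ≫ ν) he1.symm
        _ = e' ≫ j' ≫ ν := Category.assoc _ _ _
        _ = e' ≫ p ≫ j := congrArg (e' ≫ ·) hj
        _ = _ := (Category.assoc _ _ _).symm
    · calc (gg ≫ e h hp) ≫ qm V = gg ≫ e h hp ≫ qm V := Category.assoc _ _ _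
        _ = gg ≫ fs := congrArg (gg ≫ ·) (e_qm h hp)
        _ = e' ≫ qm V := he2.symm
        _ = e' ≫ p ≫ qm V := congrArg (e' ≫ ·) hpq.symm
        _ = _ := (Category.assoc _ _ _).symm
  apply (tr_bijective π (ZMod n) (W'.hom ≫ ν) 1).1
  rw [map_zero]
  refine (tr_res π (ZMod n) gg hgg 1 (kum hζ hn σ h hp)).trans ?_
  rw [tr_kum, HC.HC_HC (ZMod n) gg (e h hp) (e' ≫ p) he, ← HC.HC_HC (ZMod n) e' p (e' ≫ p) rfl,
    HC_kap' hζ hn σ p (qm V ≫ h) (qm V ≫ h) (by rw [← Category.assoc, hpq])]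
  have h5 : Units.map p.appTop.hom.toMonoidHom (cd V) = s ^ n := Units.ext hs
  rw [h5, kap_pow_self, map_zero]

include hζ hn σ in
theorem kills (hS : StmtGm.{u} n) (H : PowGm π ν n) :
    Kills π ν ((EtCoh.pull π).obj (EtCoh.const Z (ZMod n))) := by
  refine KillsOf.kills_of π ν n (Nat.pos_of_ne_zero (NeZero.ne n))
    (fun Ω _ _ ξ => card_stalk_Rpush hζ hn hS σ H.isGm ξ) fun z => ?_
  obtain ⟨V, h, hh, v, j, j', p, s, hv, hp, hp', hpq, hj, hs⟩ := H z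
  exact ⟨Scheme.Etale.mk h, v, kum hζ hn σ h hp, hv, fun V' l hne d hd hd' =>
    kum_ne hζ hn σ h hp V' l hne d hd hd', res_kum hζ hn σ h hp hp' p s hpq hj hs⟩

include hζ hn σ in
/-- **Injectivity of pull-back.** -/
theorem Hpull_injective (hS : StmtGm.{u} n) (H : PowGm π ν n) (m : ℕ)
    [hL : PreservesFiniteLimits (EtCoh.pull π)] :
    Function.Injective (EtCore.Hpull π (EtCoh.const Z (ZMod n)) m) := by
  have hu : IsUnit (n : Γ(Z, ⊤)) := isUnit_of_ringHom hn σ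
  have hk : EtCoh.KilledBy n (EtCoh.const Z (ZMod n)) := Sga4h.TensorConst.killedBy_const n
  exact InjHpull.Hpull_injective π ν (EtCoh.const Z (ZMod n))
    (fun q => isZero_Rpush hS hu H.isGm _ hk q) (kills hζ hn σ hS H)
    (isIso_unit_comp π ν _ (isIso_unit hS hu H.isGm' _ hk)) m

end Main

end Groth.Agent.Vancyc.H29.InjGm
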