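import Groth.Agent.Vancyc.H29.EdgeZero
import Groth.Agent.Etcore.RpushLoc
import Groth.Agent.Sga7.H764.HpullHigh

/-!
# Injectivity of pull-back maps on étale cohomology

`ν : X' ⟶ X`, `π : X ⟶ Y`, `F` on `Y`, `N = π^*F`.  Suppose `R^q π_* N = 0` for `q ≥ 2`, that every class in
`H^1(X ×_Y V, N)` dies in `H^1(X' ×_Y V', N)` for some étale neighbourhoods `V' → V` of every point of `V`,
and that `F → π_* ν_* ν^* π^* F` is an isomorphism.  Then `H^m(Y, F) → H^m(X, π^*F)` is injective for all `m`.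
-/

set_option autoImplicit false
universe u
open CategoryTheory CategoryTheory.Limits AlgebraicGeometry Opposite CategoryTheory.Abelian
open scoped Groth.Agent.Etcore.EtInst
open Groth.Agent.Etcore.EtInst

namespace Groth.Agent.Vancyc.H29.InjHpull

open Groth.Agent Groth.Agent.Etcore Groth.Agent.Etcore.HQ Groth.Agent.Etcore.RpushLoc
open Groth.Agent.Etcore.HpullCalc
open Groth.Agent.EtpbcB.EdgeLemma

attribute [local instance] Groth.Agent.Etcore.HQ.pfl

variable {X X' Y : Scheme.{u}} (π : X ⟶ Y) (ν : X' ⟶ X)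

/-- The projection `X' ×_X W ⟶ W`. -/
noncomputable def g (W : X.Etale) : ((EtCoh.bc ν).obj W).left ⟶ W.left :=
  SecPull.toFst ν (𝟙 ((EtCoh.bc ν).obj W))

theorem g_hom (W : X.Etale) : g ν W ≫ W.hom = ((EtCoh.bc ν).obj W).hom ≫ ν :=
  SecPull.toFst_hom ν _

theorem sq_g (G : EtCoh.Ab X) (W : X.Etale) :
    SecPull.sq ν G (V := W) (W := (EtCoh.bc ν).obj W) (g ν W) (g_hom ν W) = SecPull.unitApp ν G W := by
  rw [SecPull.sq]
  have h : SecPull.liftBC ν (g ν W) (g_hom ν W) = 𝟙 ((EtCoh.bc ν).obj W) := SecPull.liftBC_toFst ν _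
  rw [h, SecPull.secPull_id]

/-- Sections over `W'` as global sections of the pull-back to `W'`. -/
noncomputable def tp (G : EtCoh.Ab X') (W' : X'.Etale) :
    EtCoh.sect G W' ≃ EtCoh.sect ((EtCoh.pull W'.hom).obj G) (EtCoh.top W'.left) :=
  Equiv.ofBijective (SecPull.sq W'.hom G (V := W') (W := EtCoh.top W'.left) (𝟙 W'.left)
    (sq_cond W'.hom (𝟙 W'.left) (Category.id_comp _))) (by
    have h := SecPull.sq_isIso_of_etale W'.hom G (V := W') (W := EtCoh.top W'.left) (𝟙 W'.left)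
      (sq_cond W'.hom (𝟙 W'.left) (Category.id_comp _))
      (inferInstanceAs (IsIso (𝟙 W'.left : W'.left ⟶ W'.left)))
    exact (ConcreteCategory.isIso_iff_bijective _).1 h)

theorem tp_apply (G : EtCoh.Ab X') (W' : X'.Etale) (s : EtCoh.sect G W') :
    tp G W' s = SecPull.sq W'.hom G (V := W') (W := EtCoh.top W'.left) (𝟙 W'.left)
      (sq_cond W'.hom (𝟙 W'.left) (Category.id_comp _)) s := rfl

theorem tp_map {G G' : EtCoh.Ab X'} (φ : G ⟶ G') (W' : X'.Etale) (s : EtCoh.sect G W') :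
    tp G' W' (φ.hom.app (op W') s) =
      ((EtCoh.pull W'.hom).map φ).hom.app (op (EtCoh.top W'.left)) (tp G W' s) := by
  rw [tp_apply, tp_apply]
  exact ConcreteCategory.congr_hom (SecPull.sq_naturality W'.hom φ (V := W') (W := EtCoh.top W'.left)
    (𝟙 W'.left) (sq_cond W'.hom (𝟙 W'.left) (Category.id_comp _))) s

theorem sq_congr {T S : Scheme.{u}} (g : T ⟶ S) (G : EtCoh.Ab S) {V : S.Etale} {W : T.Etale}
    {q q' : W.left ⟶ V.left} (e : q = q') (hq : q ≫ V.hom = W.hom ≫ g) (hq' : q' ≫ V.hom = W.hom ≫ g) :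
    SecPull.sq g G q hq = SecPull.sq g G q' hq' := by
  subst e; rfl

/-- Compatibility of the pull-back of sections with `tp`. -/
theorem tp_unitApp (G : EtCoh.Ab X) (W : X.Etale) (s : EtCoh.sect G W) :
    tp ((EtCoh.pull ν).obj G) ((EtCoh.bc ν).obj W) (SecPull.unitApp ν G W s) =
      ((EtCore.pullComp ((EtCoh.bc ν).obj W).hom ν).hom.app G).hom.app
        (op (EtCoh.top ((EtCoh.bc ν).obj W).left))
        (SecPull.sq (((EtCoh.bc ν).obj W).hom ≫ ν) G (V := W) (W := EtCoh.top ((EtCoh.bc ν).obj W).left)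
          (g ν W) (sq_cond _ (g ν W) (g_hom ν W)) s) := by
  have h := SecPull.sq_comp ((EtCoh.bc ν).obj W).hom ν G (V := W) (W := (EtCoh.bc ν).obj W)
    (W' := EtCoh.top ((EtCoh.bc ν).obj W).left) (g ν W) (g_hom ν W) (𝟙 _)
    (sq_cond _ (𝟙 _) (Category.id_comp _)) (sq_cond _ (𝟙 _ ≫ g ν W) ((Category.assoc _ _ _).trans
      ((Category.id_comp _).trans (g_hom ν W))))
  rw [sq_g] at h
  rw [tp_apply]
  refine (ConcreteCategory.congr_hom h s).trans ?_
  exact congrArg (((EtCore.pullComp ((EtCoh.bc ν).obj W).hom ν).hom.app G).hom.app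
    (op (EtCoh.top ((EtCoh.bc ν).obj W).left)))
    (ConcreteCategory.congr_hom (sq_congr _ G (Category.id_comp _) _ _) s)

/-- If the connecting class of `s` dies on `X' ×_X W`, then the pull-back of `s` lifts. -/
theorem exists_lift {S : ShortComplex (EtCoh.Ab X)} (hS : S.ShortExact) (W : X.Etale)
    (s : EtCoh.sect S.X₃ W)
    (h : res S.X₁ (g ν W) (g_hom ν W) 1
      (δ hS W.hom 0 (sec S.X₃ W.hom (𝟙 W.left) (Category.id_comp _) s)) = 0) :
    ∃ t : EtCoh.sect ((EtCoh.pull ν).obj S.X₂) ((EtCoh.bc ν).obj W),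
      ((EtCoh.pull ν).map S.g).hom.app (op ((EtCoh.bc ν).obj W)) t = SecPull.unitApp ν S.X₃ W s := by
  rw [res_δ, res_sec S.X₃ (g ν W) (g_hom ν W) (𝟙 W.left) (Category.id_comp _) (g ν W) (g_hom ν W)
    (Category.comp_id _) s] at h
  obtain ⟨y, hy⟩ := exists_map_eq hS _ 0 _ h
  have hy' := congrArg (H0 _ _) hy
  rw [H0_sec, map_apply, H0_map] at hy'
  let t' := H0 _ _ y
  let t'' := ((EtCore.pullComp ((EtCoh.bc ν).obj W).hom ν).hom.app S.X₂).hom.app
        (op (EtCoh.top ((EtCoh.bc ν).obj W).left)) t'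
  refine ⟨(tp _ _).symm t'', (tp _ _).injective ?_⟩
  rw [tp_map, Equiv.apply_symm_apply, tp_unitApp, ← hy']
  have h2 := congrArg (fun k => k.hom.app (op (EtCoh.top ((EtCoh.bc ν).obj W).left)))
    ((EtCore.pullComp ((EtCoh.bc ν).obj W).hom ν).hom.naturality S.g)
  exact (ConcreteCategory.congr_hom h2 t').symm

section Sequence

variable (N : EtCoh.Ab X)

/-- An injective sheaf containing `ν^* I`. -/
noncomputable def J : EtCoh.Ab X' := Injective.under ((EtCoh.pull ν).obj (injSeq N).X₂)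

/-- The inclusion `ν^* I ⟶ J`. -/
noncomputable def jj : (EtCoh.pull ν).obj (injSeq N).X₂ ⟶ J ν N := Injective.ι _

instance : Mono (jj ν N) := inferInstanceAs (Mono (Injective.ι _))

theorem mono_map_f : Mono ((EtCoh.pull ν).map (injSeq N).f) := by
  have := (injSeq_shortExact N).mono_f
  infer_instance

/-- `0 ⟶ ν^* N ⟶ J ⟶ Q ⟶ 0` -/
noncomputable def S₂ : ShortComplex (EtCoh.Ab X') :=
  ShortComplex.mk ((EtCoh.pull ν).map (injSeq N).f ≫ jj ν N)
    (cokernel.π ((EtCoh.pull ν).map (injSeq N).f ≫ jj ν N)) (cokernel.condition _)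

theorem shortExact_S₂ : (S₂ ν N).ShortExact :=
  have := mono_map_f ν N
  { exact := ShortComplex.exact_of_g_is_cokernel _ (cokernelIsCokernel _)
    mono_f := inferInstanceAs (Mono ((EtCoh.pull ν).map (injSeq N).f ≫ jj ν N))
    epi_g := inferInstanceAs (Epi (cokernel.π _)) }

/-- The induced map `ν^* K ⟶ Q`. -/
noncomputable def v : (EtCoh.pull ν).obj (injSeq N).X₃ ⟶ (S₂ ν N).X₃ :=
  ((injSeq_shortExact N).map_of_exact (EtCoh.pull ν)).gIsCokernel.desc
    (CokernelCofork.ofπ (jj ν N ≫ (S₂ ν N).g) (by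
      have h : (EtCoh.pull ν).map (injSeq N).f ≫ jj ν N ≫ (S₂ ν N).g = 0 :=
        (Category.assoc _ _ _).symm.trans (S₂ ν N).zero
      exact h))

theorem g_v : (EtCoh.pull ν).map (injSeq N).g ≫ v ν N = jj ν N ≫ (S₂ ν N).g :=
  ((injSeq_shortExact N).map_of_exact (EtCoh.pull ν)).gIsCokernel.fac _ WalkingParallelPair.one

/-- The map of sequences `injSeq N ⟶ ν_* S₂`. -/
noncomputable def a : injSeq N ⟶ (S₂ ν N).map (EtCoh.push ν) where
  τ₁ := (EtCoh.pullPushAdj ν).unit.app (injSeq N).X₁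
  τ₂ := (EtCoh.pullPushAdj ν).unit.app (injSeq N).X₂ ≫ (EtCoh.push ν).map (jj ν N)
  τ₃ := (EtCoh.pullPushAdj ν).unit.app (injSeq N).X₃ ≫ (EtCoh.push ν).map (v ν N)
  comm₁₂ := by
    have h := (EtCoh.pullPushAdj ν).unit.naturality (injSeq N).f
    change (EtCoh.pullPushAdj ν).unit.app (injSeq N).X₁ ≫
      (EtCoh.push ν).map ((EtCoh.pull ν).map (injSeq N).f ≫ jj ν N) = _
    rw [Functor.map_comp, ← Category.assoc, ← Category.assoc]
    exact congrArg (· ≫ (EtCoh.push ν).map (jj ν N)) h.symm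
  comm₂₃ := by
    have h := (EtCoh.pullPushAdj ν).unit.naturality (injSeq N).g
    have h2 := congrArg (EtCoh.push ν).map (g_v ν N)
    rw [Functor.map_comp, Functor.map_comp] at h2
    change ((EtCoh.pullPushAdj ν).unit.app (injSeq N).X₂ ≫ (EtCoh.push ν).map (jj ν N)) ≫
      (EtCoh.push ν).map (S₂ ν N).g = (injSeq N).g ≫ (EtCoh.pullPushAdj ν).unit.app (injSeq N).X₃ ≫
        (EtCoh.push ν).map (v ν N)
    rw [Category.assoc, ← h2, ← Category.assoc, ← Category.assoc]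
    exact congrArg (· ≫ (EtCoh.push ν).map (v ν N)) h.symm

/-- Every class of `H^1(X ×_Y V, N)` dies on `X' ×_Y V'` for small `V'`. -/
def Kills : Prop :=
  ∀ (V : Y.Etale) (ξ : HQ N (pr π V) 1) (v : V.left),
    ∃ (V' : Y.Etale) (k : V' ⟶ V) (v' : V'.left), k.left v' = v ∧
      res N (g ν ((EtCoh.bc π).obj V')) (g_hom ν ((EtCoh.bc π).obj V')) 1
        (res N (mm π k) (mm_pr π k) 1 ξ) = 0

variable {N}

omit N in
theorem hom_eq_zero {F G : EtCoh.Ab Y} (φ : F ⟶ G)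
    (h : ∀ (V : Y.Etale) (s : EtCoh.sect F V), φ.hom.app (op V) s = 0) : φ = 0 := by
  apply ObjectProperty.hom_ext
  apply NatTrans.ext
  funext V
  obtain ⟨V⟩ := V
  apply ConcreteCategory.hom_ext
  intro s
  exact h V s

/-- The value of `ν_* S₂.g` composed with the cokernel of `kap` is zero. -/
theorem map_g_comp :
    (EtCoh.push π).map ((EtCoh.push ν).map (S₂ ν N).g) ≫
      cokernel.π (kap (EtCoh.push ν ⋙ EtCoh.push π) (S₂ ν N)) = 0 := by
  have h1 : cokernel.π ((EtCoh.push ν ⋙ EtCoh.push π).map (S₂ ν N).f) ≫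
    kap (EtCoh.push ν ⋙ EtCoh.push π) (S₂ ν N) = (EtCoh.push π).map ((EtCoh.push ν).map (S₂ ν N).g) := π_kap
  rw [← h1, Category.assoc]
  exact (congrArg (_ ≫ ·) (cokernel.condition _)).trans comp_zero

theorem map_τ₃_comp (h : Kills π ν N) :
    (EtCoh.push π).map (a ν N).τ₃ ≫ cokernel.π (kap (EtCoh.push ν ⋙ EtCoh.push π) (S₂ ν N)) = 0 := by
  apply hom_eq_zero
  intro V s
  apply Etbase.EtSite.sect_eq_zero
  intro x
  obtain ⟨V', k, v', hv', h0⟩ := h V (δ (injSeq_shortExact N) (pr π V) 0 (secP π (injSeq N).X₃ V s)) x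
  have e1 := res_δ (injSeq_shortExact N) (mm π k) (mm_pr π k) 0 (secP π (injSeq N).X₃ V s)
  rw [res_secP] at e1
  obtain ⟨t, ht⟩ := exists_lift ν (injSeq_shortExact N) ((EtCoh.bc π).obj V')
    ((injSeq N).X₃.obj.map ((EtCoh.bc π).map k).op s) ((congrArg _ e1.symm).trans h0)
  refine ⟨V', k, v', hv', ?_⟩
  let t' : EtCoh.sect (J ν N) ((EtCoh.bc ν).obj ((EtCoh.bc π).obj V')) :=
    (jj ν N).hom.app (op ((EtCoh.bc ν).obj ((EtCoh.bc π).obj V'))) t
  have e2 : (S₂ ν N).g.hom.app (op ((EtCoh.bc ν).obj ((EtCoh.bc π).obj V'))) t' =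
      (v ν N).hom.app (op ((EtCoh.bc ν).obj ((EtCoh.bc π).obj V')))
        (SecPull.unitApp ν (injSeq N).X₃ ((EtCoh.bc π).obj V')
          ((injSeq N).X₃.obj.map ((EtCoh.bc π).map k).op s)) := by
    rw [← ht]
    exact (ConcreteCategory.congr_hom (congrArg
      (fun φ => φ.hom.app (op ((EtCoh.bc ν).obj ((EtCoh.bc π).obj V')))) (g_v ν N)) t).symm
  have e3 := ConcreteCategory.congr_hom (congrArg (fun φ => φ.hom.app (op V')) (map_g_comp π ν (N := N))) t'
  have e4 := ConcreteCategory.congr_hom (((EtCoh.push π).map (a ν N).τ₃ ≫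
    cokernel.π (kap (EtCoh.push ν ⋙ EtCoh.push π) (S₂ ν N))).hom.naturality k.op) s
  refine e4.symm.trans ?_
  refine Eq.trans ?_ e3
  exact congrArg ((cokernel.π (kap (EtCoh.push ν ⋙ EtCoh.push π) (S₂ ν N))).hom.app (op V')) e2.symm

end Sequence

theorem pfl_push (f : X ⟶ Y) : PreservesFiniteLimits (EtCoh.push f) := by
  have : PreservesLimitsOfSize.{0, 0} (EtCoh.push f) := (EtCoh.pullPushAdj f).rightAdjoint_preservesLimits
  exact PreservesLimitsOfSize.preservesFiniteLimits _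

attribute [local instance] pfl_push

theorem subsingleton_of_isZero {G H : EtCoh.Ab Y} (h : IsZero H) (n : ℕ) :
    Subsingleton (Ext.{u + 1} G H n) := by
  refine subsingleton_of_forall_eq 0 fun z => ?_
  have h3 : z.comp (Ext.mk₀ (𝟙 H)) (add_zero n) = z := Ext.comp_mk₀_id _
  rw [← h3, h.eq_of_src (𝟙 H) 0, Ext.mk₀_zero, Ext.comp_zero]

/-- **Injectivity of pull-back.** -/
theorem Hpull_injective (F : EtCoh.Ab Y)
    (h2 : ∀ q, IsZero ((EtCoh.Rpush π (q + 2)).obj ((EtCoh.pull π).obj F)))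
    (h1 : Kills π ν ((EtCoh.pull π).obj F))
    (h0 : IsIso ((EtCoh.pullPushAdj π).unit.app F ≫
      (EtCoh.push π).map ((EtCoh.pullPushAdj ν).unit.app ((EtCoh.pull π).obj F)))) (m : ℕ) :
    Function.Injective (EtCore.Hpull π F m) := by
  rw [injective_iff_map_eq_zero]
  intro x hx
  rw [← Sga7.H764.HpullHigh.edgeH_unit π F m x, EtpbcB.EdgeEt.edgeH_eq] at hx
  let y : Ext.{u + 1} (EtCoh.const Y ℤ) ((EtCoh.push π).obj ((EtCoh.pull π).obj F)) m :=
    Sheaf.H.map ((EtCoh.pullPushAdj π).unit.app F) m x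
  have hy : edge (EtCoh.pullPushAdj π) (EtCoh.const Y ℤ) ((EtCoh.pull π).obj F) m y = 0 := by
    apply (EtpbcB.EdgeEt.bij_aux π ((EtCoh.pull π).obj F) m).1
    refine hx.trans ?_
    change (0 : EtCoh.H X ((EtCoh.pull π).obj F) m) =
      (Ext.mk₀ (EtCore.pullConst π ℤ).inv).comp 0 (zero_add m)
    rw [Ext.comp_zero]
  have key := EdgeZero.comp_eq_zero₂ (EtCoh.pullPushAdj π) (injSeq_shortExact ((EtCoh.pull π).obj F))
    (shortExact_S₂ ν ((EtCoh.pull π).obj F)) (a ν ((EtCoh.pull π).obj F))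
    (map_τ₃_comp π ν h1) (EtCoh.const Y ℤ) m
    (fun p q _ => subsingleton_of_isZero (h2 q) p) y hy
  let φ := (EtCoh.pullPushAdj π).unit.app F ≫
      (EtCoh.push π).map ((EtCoh.pullPushAdj ν).unit.app ((EtCoh.pull π).obj F))
  have h3 : Ext.comp (Y := F) (x : Ext.{u + 1} (EtCoh.const Y ℤ) F m) (Ext.mk₀ φ) (add_zero m) = 0 := by
    refine Eq.trans ?_ key
    have h4 := Ext.comp_assoc_of_third_deg_zero (x : Ext.{u + 1} (EtCoh.const Y ℤ) F m)
      (Ext.mk₀ ((EtCoh.pullPushAdj π).unit.app F))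
      (Ext.mk₀ ((EtCoh.push π).map ((EtCoh.pullPushAdj ν).unit.app ((EtCoh.pull π).obj F)))) (add_zero m)
    rw [Ext.mk₀_comp_mk₀] at h4
    exact h4.symm
  have h5 : Ext.comp (Y := F) (x : Ext.{u + 1} (EtCoh.const Y ℤ) F m) (Ext.mk₀ (φ ≫ inv φ)) (add_zero m) = 0 := by
    rw [← Ext.mk₀_comp_mk₀, ← Ext.comp_assoc_of_third_deg_zero, h3, Ext.zero_comp]
  rw [IsIso.hom_inv_id, Ext.comp_mk₀_id] at h5
  exact h5

end Groth.Agent.Vancyc.H29.InjHpull
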