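import Groth.Agent.Vancyc.H327.Supp3
import Groth.Agent.Vancyc.H327.AffO
import Mathlib.Algebra.Field.ZMod

/-!
# The generator of `H^{2m}_0(𝔸^m, ℤ/n)`
-/

set_option autoImplicit false
universe u
open CategoryTheory CategoryTheory.Limits AlgebraicGeometry Opposite

namespace Groth.Agent.Vancyc.H29.Kappa0

open Groth.Agent Groth.Agent.Vancyc.H327 Groth.Agent.Sga4h.H13
open scoped Groth.Agent.Etcore.EtInst
open Groth.Agent.Etcore.EtInst

noncomputable section

/-- The cohomology of affine space and of the punctured affine space. -/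
structure Input (k : Type u) [Field k] (n m : ℕ) : Prop where
  aff : ∀ q : ℕ, q ≠ 0 → Subsingleton (HC (ZMod n) (Aff k m) q)
  aff0 : Nonempty (HC (ZMod n) (Aff k m) 0 ≃+ ZMod n)
  punct : 0 < m → Nonempty (HC (ZMod n) (O0 k m : Scheme.{u}) (2 * m - 1) ≃+ ZMod n)

variable {k : Type u} [Field k] {n m : ℕ}

theorem not_mem_O0_zero (x : Aff k 0) : x ∉ O0 k 0 := by
  rw [mem_O0_iff]
  rintro ⟨i, -⟩
  exact i.down.elim0

theorem subsingleton_HC_of_isEmpty {X : Scheme.{u}} [IsEmpty X] (M : Type) [AddCommGroup M] (q : ℕ) :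
    Subsingleton (HC M X q) := by
  have h1 : IsZero (EtCoh.const X M) := by
    have h2 : IsIso (0 : EtCoh.const X M ⟶ EtCoh.const X M) := by
      rw [Groth.Agent.Etcore.Stalks.isIso_iff_stalks]
      intro Ω _ _ ξ
      exact isEmptyElim (ξ default)
    rw [IsZero.iff_id_eq_zero, ← IsIso.hom_inv_id (0 : EtCoh.const X M ⟶ EtCoh.const X M), zero_comp]
  refine ⟨fun a b => ?_⟩
  have h3 : ∀ a : HC M X q, a = 0 := fun a => by
    rw [← Abelian.Ext.comp_mk₀_id a, (IsZero.iff_id_eq_zero _).1 h1, Abelian.Ext.mk₀_zero, Abelian.Ext.comp_zero]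
  rw [h3 a, h3 b]

theorem nonempty_equiv (h : Input k n m) : Nonempty (HS (ZMod n) (O0 k m) (2 * m) ≃+ ZMod n) := by
  rcases Nat.eq_zero_or_pos m with rfl | hm
  · obtain ⟨e⟩ := h.aff0
    have h0 : Function.Bijective (HS.forget (ZMod n) (O0 k 0) (2 * 0)) := by
      constructor
      · rw [injective_iff_map_eq_zero]
        intro a ha
        obtain ⟨a', rfl⟩ := (Abelian.Ext.mk₀_bijective _ _).2 a
        rw [HS.forget_apply, Abelian.Ext.mk₀_comp_mk₀] at ha
        have h4 : ZQπ (O0 k 0) ≫ a' = 0 := (Abelian.Ext.mk₀_eq_zero_iff _).1 ha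
        have h5 : a' = 0 := by rw [← cancel_epi (ZQπ (O0 k 0)), h4, comp_zero]
        rw [h5, Abelian.Ext.mk₀_zero]
      · intro x
        refine HS.exists_forget (ZMod n) (O0 k 0) 0 x ?_
        have : IsEmpty (O0 k 0 : Scheme.{u}) := ⟨fun y => not_mem_O0_zero y.1 y.2⟩
        have := subsingleton_HC_of_isEmpty (X := (O0 k 0 : Scheme.{u})) (ZMod n) 0
        exact Subsingleton.elim _ _
    exact ⟨(AddEquiv.ofBijective _ h0).trans e⟩
  · obtain ⟨e⟩ := h.punct hm
    have h1 : 1 + (2 * m - 1) = 2 * m := by omega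
    have h0 : Function.Bijective (HS.delta (ZMod n) (O0 k m) (2 * m - 1) (2 * m) h1) := by
      constructor
      · rw [injective_iff_map_eq_zero]
        intro z hz
        obtain ⟨x, hx⟩ := HS.exists_hpull (ZMod n) (O0 k m) _ _ h1 z hz
        have := h.aff (2 * m - 1) (by omega)
        rw [← hx, Subsingleton.elim x 0, map_zero]
      · intro y
        have := h.aff (2 * m) (by omega)
        exact HS.exists_delta (ZMod n) (O0 k m) _ _ h1 y (Subsingleton.elim _ _)
    exact ⟨(AddEquiv.ofBijective _ h0).symm.trans e⟩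

theorem exists_generator (h : Input k n m) : ∃ κ : HS (ZMod n) (O0 k m) (2 * m),
    (∀ y, ∃ c : ℤ, y = c • κ) ∧ ∀ c : ℤ, c • κ = 0 ↔ (n : ℤ) ∣ c := by
  obtain ⟨e⟩ := nonempty_equiv h
  have h1 : ∀ c : ℤ, e (c • e.symm 1) = (c : ZMod n) := fun c => by
    rw [map_zsmul, AddEquiv.apply_symm_apply, zsmul_one]
  refine ⟨e.symm 1, fun y => ?_, fun c => ?_⟩
  · obtain ⟨c, hc⟩ := ZMod.intCast_surjective (e y)
    exact ⟨c, e.injective (by rw [h1, hc])⟩
  · rw [← ZMod.intCast_zmod_eq_zero_iff_dvd, ← h1, EmbeddingLike.map_eq_zero_iff]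

end

end Groth.Agent.Vancyc.H29.Kappa0
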