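import Groth.Agent.Vancyc.H120.PairChart

/-!
# Étale charts at a rational point of a smooth scheme over a field
-/

set_option autoImplicit false
universe u

open CategoryTheory CategoryTheory.Limits AlgebraicGeometry

namespace Groth.Agent.Vancyc.H29.PointChart

open Groth.Agent Groth.Agent.Sga4h.H13 Groth.Agent.Vancyc.H120 Groth.Agent.Vancyc.H120.AffChart
  Groth.Agent.Vancyc.H120.PairChart

noncomputable section

theorem etale_toAff {k : Type u} [Field k] {m : ℕ} {C : Type u} [CommRing C]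
    (φ : MvPolynomial (ULift.{u} (Fin m)) k →+* C) (h : φ.Etale) : Etale (toAff φ) := by
  have h1 : Etale (Spec.map (CommRingCat.ofHom φ)) :=
    (HasRingHomProperty.Spec_iff (P := @Etale)).2 h
  unfold toAff
  infer_instance

/-- Charts of a closed immersion, étale version. -/
theorem exists_chart_et {k : Type u} [Field k] {m : ℕ} {C : Type u} [CommRing C]
    {X Z : Scheme.{u}} (x : X ⟶ Spec (CommRingCat.of k)) (i : Z ⟶ X)
    [IsClosedImmersion i] {D : Type u} [CommRing D] (j : Spec (CommRingCat.of C) ⟶ X)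
    [IsOpenImmersion j] (ψ : C →+* D) (hψ : Function.Surjective ψ)
    (κ : Spec (CommRingCat.of D) ⟶ Z) (h : IsPullback (Spec.map (CommRingCat.ofHom ψ)) κ j i)
    (φ : MvPolynomial (ULift.{u} (Fin m)) k →+* C)
    (h1 : Spec.map (CommRingCat.ofHom (φ.comp MvPolynomial.C)) = j ≫ x)
    (h2 : RingHom.ker ψ = Ideal.span (Set.range fun a => φ (MvPolynomial.X a))) (hφ : φ.Etale) :
    ∃ Φ : (j.opensRange).toScheme ⟶ Aff k m, Φ ≫ Aff.str k m = j.opensRange.ι ≫ x ∧
      (origin k m).ker.comap Φ = i.ker.comap j.opensRange.ι ∧ Etale Φ := by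
  have e1 : j.isoOpensRange.hom ≫ j.opensRange.ι = j := j.isoOpensRange_hom_ι
  refine ⟨j.isoOpensRange.inv ≫ toAff φ, ?_, ?_, ?_⟩
  · rw [Category.assoc, toAff_str, h1, ← Category.assoc, j.isoOpensRange_inv_comp]
  · rw [Scheme.IdealSheafData.comap_comp, ← ker_of_isPullback (isPullback_origin φ ψ hψ h2),
      ker_of_isPullback h, ← Scheme.IdealSheafData.comap_comp, j.isoOpensRange_inv_comp]
  · have := etale_toAff φ hφ
    infer_instance

section

variable {k : Type u} [Field k] {A : Type u} [CommRing A]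

theorem bijective_coef (σ : k →+* A) (hσ : Function.Bijective σ) (m : ℕ) :
    Function.Bijective (coef σ m) := by
  rw [coef_eq]
  exact (MvPolynomial.map_injective σ hσ.1 |> fun h =>
    ⟨h, MvPolynomial.map_surjective σ hσ.2⟩ : Function.Bijective (MvPolynomial.map σ)).comp
    (MvPolynomial.renameEquiv k (Equiv.ulift : ULift.{u} (Fin m) ≃ Fin m)).bijective

theorem etale_coef (σ : k →+* A) (hσ : Function.Bijective σ) (m : ℕ) :
    Etale (Spec.map (CommRingCat.ofHom (coef σ m))) := by
  have h : IsIso (CommRingCat.ofHom (coef σ m)) :=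
    (ConcreteCategory.isIso_iff_bijective _).2 (bijective_coef σ hσ m)
  infer_instance

end

variable {k : Type u} [Field k] {X X0 Z : Scheme.{u}}

theorem exists_data_pt (x : X ⟶ Spec (CommRingCat.of k)) (i : Z ⟶ X)
    [IsClosedImmersion i] (m : ℕ) [SmoothOfRelativeDimension m x]
    [SmoothOfRelativeDimension 0 (i ≫ x)]
    (z : Z) : ∃ (C D : Type u) (_ : CommRing C) (_ : CommRing D) (j : Spec (CommRingCat.of C) ⟶ X)
      (_ : IsOpenImmersion j) (ψ : C →+* D) (κ : Spec (CommRingCat.of D) ⟶ Z)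
      (φ : MvPolynomial (ULift.{u} (Fin m)) k →+* C), i z ∈ j.opensRange ∧
      Function.Surjective ψ ∧ IsPullback (Spec.map (CommRingCat.ofHom ψ)) κ j i ∧
      Spec.map (CommRingCat.ofHom (φ.comp MvPolynomial.C)) = j ≫ x ∧
      RingHom.ker ψ = Ideal.span (Set.range fun a => φ (MvPolynomial.X a)) ∧ φ.Etale := by
  let V : (Spec (CommRingCat.of k)).Opens := ⊤
  have hV : IsAffineOpen V := isAffineOpen_top _
  obtain ⟨_, ⟨U, hU, rfl⟩, hzU, hUV⟩ :=
    X.isBasis_affineOpens.exists_subset_of_mem_open (show i z ∈ (x ⁻¹ᵁ V : Set X) from trivial)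
      (x ⁻¹ᵁ V).isOpen
  replace hU : IsAffineOpen U := hU
  obtain ⟨g, φ, hg, hφ, hφC, hφJ⟩ := Sga4B.SmoothPair.exists_chart_zariski x i 0 m
    (by rw [zero_add]; infer_instance) inferInstance z hV hU hzU hUV
  obtain ⟨b, hb⟩ := Sga4B.PushoutQuot.exists_isPullback i hU
    (algebraMap Γ(X, U) (Localization.Away g)) _ hφJ
  let σ : k →+* Γ(Spec (CommRingCat.of k), V) := (Spec.preimage hV.fromSpec).hom
  have hσ : Spec.map (CommRingCat.ofHom σ) = hV.fromSpec := Spec.map_preimage _
  have hσ' : Function.Bijective σ := by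
    have h1 : IsIso (Spec.map (CommRingCat.ofHom σ)) := by
      rw [hσ]
      have h2 : Surjective hV.fromSpec := ⟨fun y => by
        have := hV.range_fromSpec
        have h3 : y ∈ Set.range hV.fromSpec := by
          rw [this]
          trivial
        exact h3⟩
      exact (isIso_iff_isOpenImmersion_and_surjective hV.fromSpec).2 ⟨inferInstance, h2⟩
    have h2 : IsIso (Scheme.Spec.map (CommRingCat.ofHom σ).op) := h1
    have h3 : IsIso (CommRingCat.ofHom σ).op := isIso_of_fully_faithful Scheme.Spec _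
    have h4 : IsIso (CommRingCat.ofHom σ) := (isIso_op_iff _).1 h3
    exact (ConcreteCategory.isIso_iff_bijective _).1 h4
  have hopen : IsOpenImmersion (Spec.map (CommRingCat.ofHom
    (algebraMap Γ(X, U) (Localization.Away g)))) := IsOpenImmersion.of_isLocalization g
  have hEt : Etale (Spec.map (CommRingCat.ofHom φ)) := by
    rw [HasRingHomProperty.Spec_iff (P := @Etale)]
    exact hφ
  refine ⟨Localization.Away g, _, inferInstance, inferInstance, _, inferInstance,
    Ideal.Quotient.mk _, b, φ.comp (coef (MvPolynomial.C.comp σ) m), ?_,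
    Ideal.Quotient.mk_surjective, hb.flip, ?_, ?_, ?_⟩
  · obtain ⟨q, hq, hqa⟩ := Sga4B.SmoothPair.exists_fromSpec hU hzU
    have h5 : q ∈ Set.range (PrimeSpectrum.comap
        (algebraMap Γ(X, U) (Localization.Away g))) := by
      rw [PrimeSpectrum.localization_away_comap_range (Localization.Away g) g]
      exact (hqa g).2 hg
    obtain ⟨p, hp⟩ := h5
    refine ⟨p, ?_⟩
    change hU.fromSpec (PrimeSpectrum.comap (algebraMap Γ(X, U) (Localization.Away g)) p) = _
    rw [hp, hq]
  · have h1 : (φ.comp (coef (MvPolynomial.C.comp σ) m)).comp MvPolynomial.C =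
        ((algebraMap Γ(X, U) (Localization.Away g)).comp (x.appLE V U hUV).hom).comp σ := by
      rw [← hφC]
      ext a
      simp only [RingHom.comp_apply]
      rw [coef_C]
      rfl
    rw [h1, CommRingCat.ofHom_comp, Spec.map_comp, hσ, CommRingCat.ofHom_comp, Spec.map_comp,
      CommRingCat.ofHom_hom, Category.assoc, IsAffineOpen.SpecMap_appLE_fromSpec x hV hU hUV,
      Category.assoc]
  · rw [Ideal.mk_ker]
    congr 1
    ext c
    constructor
    · rintro ⟨a, rfl⟩
      exact ⟨ULift.up a, by simp only [RingHom.comp_apply]; rw [coef_X]⟩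
    · rintro ⟨a, rfl⟩
      exact ⟨a.down, by simp only [RingHom.comp_apply]; rw [coef_X]⟩
  · have h0 : Function.Bijective (MvPolynomial.C : Γ(Spec (CommRingCat.of k), V) →+*
        MvPolynomial (Fin 0) Γ(Spec (CommRingCat.of k), V)) :=
      ⟨MvPolynomial.C_injective _ _, MvPolynomial.C_surjective _⟩
    have h1 := etale_coef (MvPolynomial.C.comp σ : k →+* MvPolynomial (Fin 0)
      Γ(Spec (CommRingCat.of k), V)) (h0.comp hσ') m
    have h2 : Etale (Spec.map (CommRingCat.ofHom (φ.comp (coef (MvPolynomial.C.comp σ) m)))) := by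
      rw [CommRingCat.ofHom_comp, Spec.map_comp]
      infer_instance
    exact (HasRingHomProperty.Spec_iff (P := @Etale)).1 h2

/-- **Étale charts at a rational point** of the smooth locus `X0`. -/
theorem exists_chart (x : X ⟶ Spec (CommRingCat.of k)) (h : X0 ⟶ X) [IsOpenImmersion h]
    (i0 : Z ⟶ X0) (i : Z ⟶ X) (hi : i0 ≫ h = i) [IsClosedImmersion i0] [IsClosedImmersion i]
    (m : ℕ) [SmoothOfRelativeDimension m (h ≫ x)] [SmoothOfRelativeDimension 0 (i0 ≫ h ≫ x)]
    (z : Z) : ∃ (U : X.Opens) (Φ : U.toScheme ⟶ Aff k m), IsAffineOpen U ∧ i z ∈ U ∧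
      Φ ≫ Aff.str k m = U.ι ≫ x ∧ (origin k m).ker.comap Φ = i.ker.comap U.ι ∧ Etale Φ := by
  obtain ⟨C, D, _, _, j, _, ψ, κ, φ, h1, h2, h3, h4, h5, h6⟩ := exists_data_pt (h ≫ x) i0 m z
  have h7 : IsPullback (Spec.map (CommRingCat.ofHom ψ)) κ (j ≫ h) i := by
    have h9 : IsPullback i0 (𝟙 Z) h i := by
      subst hi
      exact IsPullback.of_isLimit' ⟨by simp⟩ (PullbackCone.IsLimit.mk _ (fun s => s.snd)
        (fun s => by
          rw [← cancel_mono h, Category.assoc]
          exact s.condition.symm)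
        (fun s => Category.comp_id _) (fun s m h1 h2 => by
          rw [← h2, Category.comp_id]))
    have h8 := h3.paste_vert h9
    rwa [Category.comp_id] at h8
  obtain ⟨Φ, e1, e2, e3⟩ := exists_chart_et x i (j ≫ h) ψ h2 κ h7 φ
    (by rw [h4, Category.assoc]) h5 h6
  refine ⟨(j ≫ h).opensRange, Φ, isAffineOpen_opensRange (j ≫ h), ?_, e1, e2, e3⟩
  obtain ⟨p, hp⟩ := h1
  exact ⟨p, by rw [Scheme.Hom.comp_apply, hp, ← Scheme.Hom.comp_apply, hi]⟩

end

end Groth.Agent.Vancyc.H29.PointChart
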